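import Cfsg.Agent.Lib.J4Type.Seven.Struct
import Cfsg.Prelude.Def_TwoFusion

/-!
The subgroups of order seven of the centraliser of the involution.
-/

set_option autoImplicit false
set_option linter.unusedSectionVars false

namespace CfsgLib.J4Type.Seven

open Cfsg Subgroup

variable {G : Type*} [Group G] [Finite G] {z : G} {P : Subgroup G}

theorem seven (F : Frame z P) (D : VData F) (hf : Fused D) (Q : Subgroup G) (hQ : Nat.card ↥Q = 7)
    (hQz : Q ≤ Subgroup.centralizer ({z} : Set G)) :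
    ¬ (49 ∣ Nat.card G) ∧
    (∃ I : Subgroup G, IsInternalDirectProduct Q I (Subgroup.centralizer (Q : Set G)) ∧
      Nonempty (↥I ≃* Equiv.Perm (Fin 5))) ∧
    Nat.card ↥(Subgroup.normalizer (Q : Set G)) =
      3 * Nat.card ↥(Subgroup.centralizer (Q : Set G)) ∧
    Nat.card ↥(Subgroup.normalizer (Q : Set G)) = 2 ^ 3 * 3 ^ 2 * 5 * 7 := by
  obtain ⟨S⟩ := exists_setup F D hf
  obtain ⟨A⟩ := exists_ctx S
  haveI : Fact (Nat.Prime 7) := ⟨by norm_num⟩
  obtain ⟨⟨y, hy⟩, hyo⟩ := exists_prime_orderOf_dvd_card' (G := Q) 7 (by rw [hQ])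
  rw [Subgroup.orderOf_mk] at hyo
  obtain ⟨c, -, j, hc⟩ := S.exists_conj_s (hQz hy) hyo
  have hQe : Q = zpowers y := (eq_of_le_of_card_ge (zpowers_le.2 hy)
    (by rw [Nat.card_zpowers, hyo, hQ])).symm
  have hy1 : y ≠ 1 := fun h => by rw [h, orderOf_one] at hyo; omega
  have hsj : S.s ^ j ≠ 1 := fun h => hy1 (by rw [← hc, h]; group)
  have hs7 : S.s ^ 7 = 1 := by rw [← S.s_order]; exact pow_orderOf_eq_one _
  have hj7 : (S.s ^ j) ^ 7 = 1 := by rw [← pow_mul, mul_comm, pow_mul, hs7, one_pow]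
  have haj : S.s ^ A.j ≠ 1 := fun h => A.a_ne (by rw [← A.conj_a, h]; group)
  have hzp : zpowers (S.s ^ A.j) = zpowers (S.s ^ j) := by
    have e : ∀ i : ℕ, S.s ^ i ≠ 1 → zpowers (S.s ^ i) = zpowers S.s := fun i hi => by
      refine eq_of_le_of_card_ge (zpowers_le.2 (pow_mem (mem_zpowers _) i)) ?_
      rw [Nat.card_zpowers, Nat.card_zpowers, S.s_order,
        orderOf_eq_prime (p := 7) (by rw [← pow_mul, mul_comm, pow_mul, hs7, one_pow]) hi]
    rw [e _ haj, e _ hsj]
  set φ := MulAut.conj (c * A.e⁻¹)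
  have hmap : (zpowers A.a).map φ.toMonoidHom = Q := by
    have h1 : (zpowers A.a).map φ.toMonoidHom =
        (zpowers (S.s ^ A.j)).map (MulAut.conj c).toMonoidHom := by
      rw [MonoidHom.map_zpowers, MonoidHom.map_zpowers]
      congr 1
      show c * A.e⁻¹ * A.a * (c * A.e⁻¹)⁻¹ = c * S.s ^ A.j * c⁻¹
      rw [← A.conj_a]
      group
    rw [h1, hzp, MonoidHom.map_zpowers, hQe, ← hc]
    rfl
  have hXc : A.X = centralizer ((zpowers A.a : Subgroup G) : Set G) := by
    ext x
    rw [A.mem_X, mem_centralizer_iff]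
    constructor
    · intro hx w hw
      obtain ⟨k, rfl⟩ := mem_zpowers_iff.1 hw
      exact ((show Commute x A.a from hx).zpow_right k).eq.symm
    · exact fun h => (h A.a (mem_zpowers _)).symm
  have hinj : Function.Injective φ.toMonoidHom := φ.injective
  have hcen : centralizer (Q : Set G) = A.X.map φ.toMonoidHom := by
    rw [hXc, ← hmap]
    ext x
    rw [mem_map_equiv, mem_centralizer_iff, mem_centralizer_iff]
    constructor
    · intro hx w hw
      apply φ.injective
      rw [map_mul, map_mul, φ.apply_symm_apply]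
      exact hx (φ w) ⟨w, hw, rfl⟩
    · rintro hx _ ⟨w, hw, rfl⟩
      have := congrArg φ (hx w hw)
      rw [map_mul, map_mul, φ.apply_symm_apply] at this
      exact this
  have hnor : normalizer (Q : Set G) =
      (normalizer (zpowers A.a : Set G)).map φ.toMonoidHom := by
    rw [← hmap]
    exact (map_equiv_normalizer_eq _ _).symm
  refine ⟨A.not_dvd_49, ?_, ?_, ?_⟩
  · obtain ⟨I, ⟨h1, h2, h3, h4, h5⟩, ⟨e⟩⟩ := A.exists_factor
    refine ⟨I.map φ.toMonoidHom, ⟨?_, ?_, ?_, ?_, ?_⟩,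
      ⟨(I.equivMapOfInjective _ hinj).symm.trans e⟩⟩
    · rw [hcen, ← hmap]; exact map_mono h1
    · rw [hcen]; exact map_mono h2
    · rw [← hmap]
      rintro _ ⟨a, ha, rfl⟩ _ ⟨b, hb, rfl⟩
      rw [← map_mul, ← map_mul, h3 a ha b hb]
    · rw [← hmap, ← map_inf _ _ _ hinj, h4, Subgroup.map_bot]
    · rw [hcen, ← hmap, ← Subgroup.map_sup, h5]
  · rw [hnor, hcen, Subgroup.card_map_of_injective hinj, Subgroup.card_map_of_injective hinj,
      A.card_normalizer, A.card_X]
  · rw [hnor, Subgroup.card_map_of_injective hinj, A.card_normalizer]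
    norm_num

end CfsgLib.J4Type.Seven
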