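import Cfsg.Agent.Lib.J4Type.Seven.Data
import Cfsg.Agent.Lib.J4Type.NV.Count
import Cfsg.Agent.Lib.Invol.Basic

/-!
The centraliser of an element of order seven in the centraliser of the involution.
-/

set_option autoImplicit false
set_option linter.unusedSectionVars false
set_option maxRecDepth 100000

namespace CfsgLib.J4Type.Seven

open Cfsg Subgroup Local57

variable {G : Type*} [Group G] [Finite G] {z : G} {P : Subgroup G}

/-- An element of order seven of the centraliser of `P` in given coordinates. -/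
structure Setup (z : G) (P : Subgroup G) where
  /-- The coordinates. -/
  F : Frame z P
  /-- The group of order `2 ^ 11`. -/
  D : VData F
  fused : Fused D
  /-- The element of order seven. -/
  s : G
  s_mem : s ∈ CP z P
  s_order : orderOf s = 7
  s_mat : F.mat s = m7

theorem exists_setup (F : Frame z P) (D : VData F) (hf : Fused D) : Nonempty (Setup z P) := by
  have hck := cent_ok
  simp only [centCheck, Bool.and_eq_true, List.all_eq_true] at hck
  have hne : m7 ≠ idM := by decide +kernel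
  obtain ⟨s, hs, ho, hm⟩ := exists_gen F inL_m7 (Three.eqM_sound hck.2) (p := 7) (by norm_num)
    (by decide) (Three.eqM_sound hck.1.2) hne
  exact ⟨⟨F, D, hf, s, hs, ho, hm⟩⟩

namespace Setup

variable (S : Setup z P)

/-- The centraliser of `s` in the centraliser of the involution. -/
def CX : Subgroup G := Cen z ⊓ centralizer ({S.s} : Set G)

theorem mem_CX {g : G} : g ∈ S.CX ↔ g ∈ Cen z ∧ g * S.s = S.s * g := by
  rw [CX, mem_inf]
  exact and_congr_right fun _ => mem_centralizer_singleton_iff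

theorem s_odd : Odd (orderOf S.s) := by rw [S.s_order]; decide

theorem z_mem_CX : z ∈ S.CX := S.mem_CX.2 ⟨S.F.z_mem_cen, (S.F.z_comm S.s_mem.1).symm⟩

theorem p_mem_CX : S.F.p0 ∈ S.CX :=
  S.mem_CX.2 ⟨S.F.p0_mem_cen, (S.F.mem_centP_iff.1 S.s_mem.2).symm⟩

theorem p_ne : S.F.p0 ≠ 1 := fun e => by
  have h := S.F.mat_p0
  rw [e, S.F.mat_one] at h
  exact absurd h (by decide +kernel)

theorem p_order : orderOf S.F.p0 = 3 := by
  haveI : Fact (Nat.Prime 3) := ⟨Nat.prime_three⟩
  exact orderOf_eq_prime S.F.p0_cube S.p_ne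

theorem rad_CX {x : G} (hx : x ∈ Rad z) (hc : x ∈ S.CX) : x = 1 ∨ x = z := by
  have h := S.F.conj_co S.s_mem.1 hx
  rw [← (S.mem_CX.1 hc).2, mul_inv_cancel_right, S.s_mat] at h
  have h0 := List.all_eq_true.1 fix_ok _ (List.mem_range.2 (S.F.co_lt x hx))
  rw [← h, Nat.beq_refl, Bool.not_true, Bool.false_or] at h0
  exact (S.F.co_eq_zero x hx).1 (Nat.eq_of_beq_eq_true h0)

theorem mem_spread {h : G} (hh : h ∈ S.CX) : S.F.mat h ∈ spread reps7 :=
  mat_mem_spread S.F S.s_mem (Or.inr rfl) S.s_order inL_reps7 (S.s_mat ▸ cent_ok) hh.1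
    (S.mem_CX.1 hh).2

theorem pPows_inL {c : List ℕ} (hc : c ∈ pPows) : InL c := by
  have hp : InL pOm := by
    rw [show pOm = Three.wordM [0, 0, 1, 2, 1, 1, 0, 2, 2] by decide +kernel]
    exact Three.inL_wordM _ (by decide +kernel)
  simp only [pPows, List.mem_cons, List.not_mem_nil, or_false] at hc
  rcases hc with rfl | rfl | rfl
  · exact InL.one
  · exact hp
  · exact hp.comp hp

theorem exists_lift {c : List ℕ} (hc : c ∈ spread reps7) : ∃ l ∈ S.CX, S.F.mat l = c := by
  have h := Three.eqM_sound (List.all_eq_true.1 spread_ok.2.2 c hc)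
  obtain ⟨r, hr, h'⟩ := List.mem_flatMap.1 hc
  obtain ⟨t, ht, rfl⟩ := List.mem_map.1 h'
  obtain ⟨l, hl, hm, hcm⟩ := exists_comm S.F S.s_mem S.s_odd
    ((inL_reps7 r hr).comp (pPows_inL ht)) (by rw [S.s_mat]; exact h)
  exact ⟨l, S.mem_CX.2 ⟨hl.1, hcm⟩, hm⟩

/-- The matrix map on the centraliser. -/
noncomputable def matHom : ↥S.CX →* Cert.LGrp where
  toFun h := ⟨S.F.mat h, S.F.mat_inL h h.2.1⟩
  map_one' := Subtype.ext S.F.mat_one
  map_mul' a b := Subtype.ext (S.F.mat_mul a a.2.1 b b.2.1)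

theorem card_CX : Nat.card S.CX = 84 := by
  have hker : Nat.card S.matHom.ker = 2 := by
    have hR : ((Subtype.val) '' (S.matHom.ker : Set ↥S.CX) : Set G) = {1, z} := by
      ext x
      simp only [Set.mem_image, SetLike.mem_coe, MonoidHom.mem_ker, Set.mem_insert_iff,
        Set.mem_singleton_iff]
      constructor
      · rintro ⟨h, hh, rfl⟩
        exact S.rad_CX ((S.F.mat_eq_id h h.2.1).1 (congrArg Subtype.val hh)) h.2
      · rintro (rfl | rfl)
        · exact ⟨1, map_one _, rfl⟩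
        · exact ⟨⟨x, S.z_mem_CX⟩, Subtype.ext S.F.mat_z, rfl⟩
    rw [← SetLike.coe_sort_coe, Nat.card_coe_set_eq, ← Set.ncard_image_of_injective _
      Subtype.val_injective, hR, Set.ncard_pair S.F.z_ne.symm]
  have hran : Nat.card S.matHom.range = 42 := by
    let f : S.matHom.range → {c // c ∈ spread reps7} := fun c => ⟨c.1.1, by
      obtain ⟨h, e⟩ := c.2
      rw [← e]; exact S.mem_spread h.2⟩
    have hb : Function.Bijective f := by
      constructor
      · intro a b e
        exact Subtype.ext (Subtype.ext (congrArg (fun c : {c // c ∈ spread reps7} => c.1) e))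
      · rintro ⟨c, hc⟩
        obtain ⟨l, hl, hm⟩ := S.exists_lift hc
        exact ⟨⟨_, ⟨l, hl⟩, rfl⟩, Subtype.ext hm⟩
    rw [Nat.card_congr (Equiv.ofBijective f hb)]
    have := Fintype.ofFinite {c // c ∈ spread reps7}
    rw [Nat.card_eq_fintype_card, Fintype.card_of_subtype (spread reps7).toFinset (by simp),
      List.toFinset_card_of_nodup spread_ok.1, spread_ok.2.1]
  rw [← card_mul_index S.matHom.ker, index_ker, hran, hker]

theorem mat_p_pow {c : List ℕ} (hc : c ∈ pPows) : ∃ i < 3, S.F.mat (S.F.p0 ^ i) = c := by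
  simp only [pPows, List.mem_cons, List.not_mem_nil, or_false] at hc
  rcases hc with rfl | rfl | rfl
  · exact ⟨0, by norm_num, by rw [pow_zero, S.F.mat_one]⟩
  · exact ⟨1, by norm_num, by rw [pow_one, S.F.mat_p0]⟩
  · exact ⟨2, by norm_num, by
      rw [pow_two, S.F.mat_mul _ S.F.p0_mem_cen _ S.F.p0_mem_cen, S.F.mat_p0]⟩

/-- An involution of the centraliser other than the central one inverts `p0`, and any other is
obtained from it by powers of `p0` and the central involution. -/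
theorem invol_CX {h : G} (hh : h ∈ S.CX) (h2 : h * h = 1) (h1 : h ≠ 1) (hz : h ≠ z) :
    h * S.F.p0 * h = S.F.p0⁻¹ ∧ ∀ k ∈ S.CX, k * k = 1 → k ≠ 1 → k ≠ z →
      ∃ i < 3, k = S.F.p0 ^ i * h ∨ k = S.F.p0 ^ i * h * z := by
  have key : ∀ {x : G}, x ∈ S.CX → x * x = 1 → x ≠ 1 → x ≠ z →
      Three.eqM (mm (S.F.mat x) (S.F.mat x)) idM = true ∧ Three.eqM (S.F.mat x) idM = false := by
    intro x hx x2 x1 xz
    refine ⟨by rw [← S.F.mat_mul x hx.1 x hx.1, x2, S.F.mat_one]; exact Three.eqM_refl _, ?_⟩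
    cases e : Three.eqM (S.F.mat x) idM
    · rfl
    · rcases S.rad_CX ((S.F.mat_eq_id x hx.1).1 (Three.eqM_sound e)) hx with e' | e'
      · exact absurd e' x1
      · exact absurd e' xz
  obtain ⟨a1, a2⟩ := key hh h2 h1 hz
  have hc := List.all_eq_true.1 invol_ok _ (S.mem_spread hh)
  simp only [a1, a2, Bool.not_true, Bool.false_or, Bool.and_eq_true, Bool.not_eq_true',
    List.all_eq_true] at hc
  obtain ⟨⟨-, hinv⟩, hall⟩ := hc
  refine ⟨?_, fun k hk k2 k1 kz => ?_⟩
  · have hp := S.p_mem_CX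
    set y := h * S.F.p0 * h with hy
    have hyC : y ∈ S.CX := S.CX.mul_mem (S.CX.mul_mem hh hp) hh
    have hm : S.F.mat (y * S.F.p0) = idM := by
      rw [S.F.mat_mul _ hyC.1 _ S.F.p0_mem_cen, hy, S.F.mat_mul _ (mul_mem hh.1 hp.1) _ hh.1,
        S.F.mat_mul _ hh.1 _ hp.1, S.F.mat_p0, Three.eqM_sound hinv, mm_assoc, mm_assoc,
        mm_assoc, ← mm_assoc (S.F.mat h), Three.eqM_sound a1]
      decide +kernel
    have y3 : y ^ 3 = 1 := by
      have hi : h⁻¹ = h := inv_eq_of_mul_eq_one_right h2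
      have := conj_pow (i := 3) (a := h) (b := S.F.p0)
      rw [hi] at this
      rw [hy, this, S.F.p0_cube, mul_one, h2]
    rcases S.rad_CX ((S.F.mat_eq_id _ (mul_mem hyC.1 hp.1)).1 hm) (S.CX.mul_mem hyC hp) with e | e
    · exact eq_inv_of_mul_eq_one_left e
    · exfalso
      have e' : y = z * S.F.p0⁻¹ := eq_mul_inv_iff_mul_eq.2 e
      rw [e', (show Commute z S.F.p0⁻¹ from ((show Commute z S.F.p0 from
        (S.F.z_comm hp.1).symm).inv_right)).mul_pow, inv_pow, S.F.p0_cube, inv_one, mul_one,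
        pow_succ, pow_two, S.F.z_mul_z, one_mul] at y3
      exact S.F.z_ne y3
  · obtain ⟨b1, b2⟩ := key hk k2 k1 kz
    have hd := hall _ (S.mem_spread hk)
    simp only [b1, b2, Bool.not_true, Bool.false_or] at hd
    obtain ⟨t, ht, e⟩ := List.any_eq_true.1 hd
    obtain ⟨i, hi, hit⟩ := S.mat_p_pow ht
    refine ⟨i, hi, ?_⟩
    have hw : S.F.p0 ^ i * h ∈ S.CX := S.CX.mul_mem (pow_mem S.p_mem_CX i) hh
    have hm : S.F.mat k = S.F.mat (S.F.p0 ^ i * h) := by
      rw [S.F.mat_mul _ (pow_mem S.F.p0_mem_cen i) _ hh.1, hit, Three.eqM_sound e]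
    have hmm : S.F.mat ((S.F.p0 ^ i * h)⁻¹ * k) = idM := by
      rw [S.F.mat_mul _ (inv_mem hw.1) _ hk.1, hm, ← S.F.mat_mul _ (inv_mem hw.1) _ hw.1,
        inv_mul_cancel, S.F.mat_one]
    rcases S.rad_CX ((S.F.mat_eq_id _ (mul_mem (inv_mem hw.1) hk.1)).1 hmm)
      (S.CX.mul_mem (S.CX.inv_mem hw) hk) with e | e
    · exact Or.inl (inv_mul_eq_one.1 e).symm
    · exact Or.inr (inv_mul_eq_iff_eq_mul.1 e)

/-- An element of order seven of the centraliser is conjugate in it to a power of `s`. -/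
theorem exists_conj_s {y : G} (hy : y ∈ Cen z) (h7 : orderOf y = 7) :
    ∃ c ∈ Cen z, ∃ j : ℕ, c * S.s ^ j * c⁻¹ = y := by
  haveI : Fact (Nat.Prime 7) := ⟨by norm_num⟩
  obtain ⟨B⟩ := CoreP.exists_base S.F
  have hC := B.card_cen
  let a : ↥(Cen z) := ⟨S.s, S.s_mem.1⟩
  let b : ↥(Cen z) := ⟨y, hy⟩
  have hfac : (Nat.card ↥(Cen z)).factorization 7 = 1 := by
    rw [hC, show 887040 * (3 * 2 ^ 13) = 7 ^ 1 * (126720 * (3 * 2 ^ 13)) by norm_num]
    rw [Nat.factorization_mul (by norm_num) (by norm_num),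
      Nat.Prime.factorization_pow (by norm_num : Nat.Prime 7), Finsupp.add_apply,
      Finsupp.single_eq_same, Nat.factorization_eq_zero_of_not_dvd (by norm_num)]
  have hcard : ∀ x : ↥(Cen z), orderOf x = 7 →
      Nat.card (zpowers x) = 7 ^ (Nat.card ↥(Cen z)).factorization 7 := by
    intro x hx
    rw [hfac, Nat.card_zpowers, hx, pow_one]
  let Sa := Sylow.ofCard (zpowers a) (hcard a ((Subgroup.orderOf_mk S.s S.s_mem.1).trans S.s_order))
  let Sb := Sylow.ofCard (zpowers b) (hcard b ((Subgroup.orderOf_mk y hy).trans h7))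
  obtain ⟨c, hc⟩ := MulAction.exists_smul_eq ↥(Cen z) Sa Sb
  have hb : b ∈ (c • Sa : Sylow 7 ↥(Cen z)).toSubgroup := by rw [hc]; exact mem_zpowers b
  rw [Sylow.coe_subgroup_smul] at hb
  obtain ⟨x, hx, e⟩ := hb
  obtain ⟨j, hj⟩ := (isOfFinOrder_of_finite a).mem_powers_iff_mem_zpowers.2 hx
  subst hj
  exact ⟨c, c.2, j, congrArg Subtype.val e⟩

/-- A power of `s` other than the identity has the same centraliser. -/
theorem cent_pow {j : ℕ} (hj : S.s ^ j ≠ 1) (g : G) :
    g * S.s ^ j = S.s ^ j * g ↔ g * S.s = S.s * g := by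
  refine ⟨fun h => ?_, fun h => (show Commute g S.s from h).pow_right j⟩
  haveI : Fact (Nat.Prime 7) := ⟨by norm_num⟩
  have hmem : S.s ∈ zpowers (S.s ^ j) := by
    have he : zpowers (S.s ^ j) = zpowers S.s := by
      refine eq_of_le_of_card_ge (zpowers_le.2 (pow_mem (mem_zpowers _) j)) ?_
      rw [Nat.card_zpowers, Nat.card_zpowers, S.s_order, orderOf_eq_prime (p := 7) (by
        rw [← pow_mul, mul_comm, pow_mul, ← S.s_order, pow_orderOf_eq_one, one_pow]) hj]
    rw [he]; exact mem_zpowers _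
  obtain ⟨k, hk⟩ := mem_zpowers_iff.1 hmem
  have := (show Commute g (S.s ^ j) from h).zpow_right k
  rw [hk] at this
  exact this

end Setup

end CfsgLib.J4Type.Seven
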