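import Cfsg.Agent.Lib.J4Type.Seven.Align
import Cfsg.Agent.S1875

/-!
The order of the centraliser of an element of order seven by the order formula of Thompson.
-/

set_option autoImplicit false
set_option linter.unusedSectionVars false
set_option maxRecDepth 100000

namespace CfsgLib.J4Type.Seven

open Cfsg Subgroup CfsgLib.Golay

variable {G : Type*} [Group G] [Finite G] {z : G} {P : Subgroup G}

/-- An involution generated by the product of two involutions commutes with both. -/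
theorem comm_of_mem_zpowers {a b u : G} (ha : a * a = 1) (hb : b * b = 1) (hu : u * u = 1)
    (h : u ∈ zpowers (a * b)) : u * a = a * u ∧ u * b = b * u := by
  obtain ⟨k, hk⟩ := mem_zpowers_iff.1 h
  have hi : u⁻¹ = u := inv_eq_of_mul_eq_one_right hu
  have hai : a⁻¹ = a := inv_eq_of_mul_eq_one_right ha
  have hbi : b⁻¹ = b := inv_eq_of_mul_eq_one_right hb
  have e1 : a * (a * b) * a⁻¹ = (a * b)⁻¹ := by
    rw [mul_inv_rev, hai, hbi, ← mul_assoc, ha, one_mul]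
  have e2 : b * (a * b) * b⁻¹ = (a * b)⁻¹ := by
    rw [mul_inv_rev, hai, hbi, mul_assoc, mul_assoc, hb, mul_one]
  constructor
  · refine (mul_inv_eq_iff_eq_mul.1 ?_).symm
    rw [← hk, ← conj_zpow, e1, inv_zpow, hk, hi]
  · refine (mul_inv_eq_iff_eq_mul.1 ?_).symm
    rw [← hk, ← conj_zpow, e2, inv_zpow, hk, hi]

namespace Ctx

variable {S : Setup z P} (A : Ctx S)

/-- Conjugacy in the centraliser. -/
def ConjX (x y : G) : Prop := ∃ g ∈ A.X, g * x * g⁻¹ = y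

theorem ConjX.trans {a b c : G} (h : A.ConjX a b) (h' : A.ConjX b c) : A.ConjX a c := by
  obtain ⟨g, hg, rfl⟩ := h
  obtain ⟨k, hk, rfl⟩ := h'
  exact ⟨k * g, A.X.mul_mem hk hg, by group⟩

theorem ConjX.symm {a b : G} (h : A.ConjX a b) : A.ConjX b a := by
  obtain ⟨g, hg, rfl⟩ := h
  exact ⟨g⁻¹, A.X.inv_mem hg, by group⟩

theorem ConjX.isConj {a b : G} (h : A.ConjX a b) : IsConj a b := by
  obtain ⟨g, -, rfl⟩ := h
  exact isConj_iff.2 ⟨g, rfl⟩

theorem ConjX.sq {a b : G} (h : A.ConjX a b) (ha : a * a = 1) : b * b = 1 := by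
  obtain ⟨g, -, rfl⟩ := h
  rw [show g * a * g⁻¹ * (g * a * g⁻¹) = g * (a * a) * g⁻¹ by group, ha]
  group

/-- The fixed element in the last position. -/
noncomputable abbrev w3 : G := A.pairE 18 23

theorem w3_W : A.w3 ∈ A.W := A.pairE_W (by decide) (by decide)

theorem W_sq {w : G} (hw : w ∈ A.W) : w * w = 1 := Frame.V_sq S.D hw.1

theorem W_notZ {w : G} (hw : w ∈ A.W) : ¬ IsConj z w := by
  intro h
  rcases eq_or_ne w 1 with rfl | h1
  · obtain ⟨g, hg⟩ := isConj_iff.1 h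
    exact S.F.z_ne (conj_eq_one_iff.1 hg)
  · exact (A.W_pairV hw h1).2.2 h

/-- The Sylow `2`-subgroup. -/
noncomputable def T : Subgroup G := A.C3 ⊓ A.pre (zpowers π2)

theorem T_le_M : A.T ≤ A.M := inf_le_left.trans A.C3_le

theorem W_le_T : A.W ≤ A.T := fun w hw => ⟨A.W_le_C3 hw, A.V_le_norm hw.1, by
  rw [(A.model.perm_eq_one w (A.V_le_norm hw.1)).2 hw.1]; exact one_mem _⟩

theorem perm_T {x : G} (hx : x ∈ A.T) : A.model.perm x = 1 ∨ A.model.perm x = π2 := by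
  obtain ⟨k, hk⟩ := (isOfFinOrder_of_finite π2).mem_powers_iff_mem_zpowers.2 hx.2.2
  change π2 ^ k = A.model.perm x at hk
  rcases Nat.even_or_odd k with ⟨r, hr⟩ | ⟨r, hr⟩
  · left
    rw [← hk, hr, ← two_mul, pow_mul, pow_two, π2_facts.1, one_pow]
  · right
    rw [← hk, hr, pow_succ, pow_mul, pow_two, π2_facts.1, one_pow, one_mul]

theorem mem_W_of_perm {x : G} (hx : x ∈ A.M) (h : A.model.perm x = 1) : x ∈ A.W :=
  ⟨(A.model.perm_eq_one x hx.1).1 h, hx.2⟩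

theorem perm_out {x : G} (hx : x ∈ A.T) (hW : x ∉ A.W) : A.model.perm x = π2 :=
  (A.perm_T hx).resolve_left fun h => hW (A.mem_W_of_perm (A.T_le_M hx) h)

theorem swap {x : G} (hx : x ∈ A.T) (hW : x ∉ A.W) :
    x * A.pairE 0 18 * x⁻¹ = A.pairE 0 23 ∧ x * A.pairE 0 23 * x⁻¹ = A.pairE 0 18 := by
  obtain ⟨-, -, q3, q4, q5⟩ := π2_facts
  constructor
  · rw [pairE, A.conj_pairE (A.T_le_M hx).1, A.perm_out hx hW, q3, q4]; rfl
  · rw [pairE, A.conj_pairE (A.T_le_M hx).1, A.perm_out hx hW, q3, q5]; rfl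

theorem card_T : Nat.card A.T = 8 := by
  classical
  set φ := A.permHom A.T A.T_le_M
  obtain ⟨m, hm, hmp⟩ := A.exists_m2
  have hmT : m ∈ A.T := ⟨hm, (A.C3_le hm).1, by rw [hmp]; exact mem_zpowers _⟩
  have hran : (φ.range : Set (Equiv.Perm GolayPt)) = {1, π2} := by
    ext y
    constructor
    · rintro ⟨⟨x, hx⟩, rfl⟩
      exact A.perm_T hx
    · rintro (rfl | rfl)
      · exact one_mem _
      · exact ⟨⟨m, hmT⟩, hmp⟩
  rw [← card_mul_index φ.ker, index_ker, A.card_permHom_ker A.T_le_M A.W_le_T,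
    ← SetLike.coe_sort_coe (φ.range), Nat.card_coe_set_eq, hran,
    Set.ncard_pair fun h => π2_ne_pow 0 (by rw [← h, pow_zero])]

theorem T_maximal {Q : Subgroup G} (hQ : IsPGroup 2 Q) (hT : A.T ≤ Q) (hX : Q ≤ A.X) : Q = A.T := by
  by_contra hne
  haveI : Fact (Nat.Prime 2) := ⟨Nat.prime_two⟩
  haveI : Group.IsNilpotent Q := hQ.isNilpotent
  have hlt : A.T.subgroupOf Q < ⊤ :=
    lt_top_iff_ne_top.2 fun h => hne (le_antisymm (subgroupOf_eq_top.1 h) hT)
  obtain ⟨⟨n, hnQ⟩, hnN, hnT⟩ :=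
    SetLike.exists_of_lt (normalizerCondition_of_isNilpotent _ hlt)
  rw [mem_subgroupOf] at hnT
  have hnorm : ∀ x, x ∈ A.T → n * x * n⁻¹ ∈ A.T := fun x hx => by
    have := (mem_normalizer_iff.1 hnN ⟨x, hT hx⟩).1 (mem_subgroupOf.2 hx)
    rwa [mem_subgroupOf] at this
  obtain ⟨m, hm, hmp⟩ := A.exists_m2
  have hmT : m ∈ A.T := ⟨hm, (A.C3_le hm).1, by rw [hmp]; exact mem_zpowers _⟩
  have hmW : m ∉ A.W := fun h => π2_ne_pow 0 (by
    rw [pow_zero, ← hmp, (A.model.perm_eq_one m (A.C3_le hm).1).2 h.1])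
  set y := n * A.w3 * n⁻¹ with hy
  have hyT : y ∈ A.T := hnorm _ (A.W_le_T A.w3_W)
  have hcomm : ∀ x ∈ A.T, x * y = y * x := by
    intro x hx
    have hn' : n⁻¹ * x * n ∈ A.T := by
      have hinj : Function.Injective fun v : A.T => (⟨n * v * n⁻¹, hnorm v v.2⟩ : A.T) :=
        fun v w e => Subtype.ext (mul_left_cancel (mul_right_cancel (congrArg Subtype.val e)))
      obtain ⟨v, hv⟩ := (Finite.surjective_of_injective hinj) ⟨x, hx⟩
      have e : n * (v : G) * n⁻¹ = x := congrArg Subtype.val hv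
      rw [← e]
      simp [mul_assoc]
    calc x * y = n * (n⁻¹ * x * n * A.w3) * n⁻¹ := by rw [hy]; group
      _ = n * (A.w3 * (n⁻¹ * x * n)) * n⁻¹ := by rw [(A.mem_C3.1 hn'.1).2]
      _ = y * x := by rw [hy]; group
  obtain ⟨d1, d2, d3, d4, d5, d6⟩ := A.W_distinct
  have hyW : y ∈ A.W := by
    by_contra h
    have e := (A.swap hyT h).1
    rw [← hcomm _ (A.W_le_T (A.pairE_W (by decide) (by decide))), mul_inv_cancel_right] at e
    exact d1 e
  have hy3 : y = A.w3 := by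
    rcases A.mem_W_cases hyW with e | e | e | e
    · exact absurd (conj_eq_one_iff.1 e) d6
    · have e' := (A.swap hmT hmW).1
      rw [← e, hcomm m hmT, mul_inv_cancel_right, e] at e'
      exact absurd e' d1
    · have e' := (A.swap hmT hmW).2
      rw [← e, hcomm m hmT, mul_inv_cancel_right, e] at e'
      exact absurd e'.symm d1
    · exact e
  have hnC : n ∈ A.C3 := A.mem_C3.2 ⟨hX hnQ, mul_inv_eq_iff_eq_mul.1 hy3⟩
  have hle : A.T ≤ Q ⊓ A.C3 := le_inf hT inf_le_left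
  have h2 : IsPGroup 2 ↥(Q ⊓ A.C3) := hQ.to_le inf_le_left
  obtain ⟨i, hi⟩ := IsPGroup.iff_card.1 h2
  have hd : 2 ^ i ∣ 56 := by
    rw [← hi, ← A.card_C3]
    exact card_dvd_of_le inf_le_right
  have hi3 : i ≤ 3 := by
    by_contra h
    have := dvd_trans (pow_dvd_pow 2 (show 4 ≤ i by omega)) hd
    norm_num at this
  have he : A.T = Q ⊓ A.C3 := eq_of_le_of_card_ge hle (by
    rw [hi, A.card_T]
    exact le_trans (Nat.pow_le_pow_right (by norm_num) hi3) (by norm_num))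
  exact hnT (he ▸ mem_inf.2 ⟨hnQ, hnC⟩)

/-- Every involution of the centraliser is conjugate in it into `T`. -/
theorem invol_into_T {x : G} (hx : x ∈ A.X) (h2 : x * x = 1) : ∃ y ∈ A.T, A.ConjX x y := by
  haveI : Fact (Nat.Prime 2) := ⟨Nat.prime_two⟩
  have hTX : A.T ≤ A.X := A.T_le_M.trans inf_le_right
  have hT2 : IsPGroup 2 ↥(A.T.subgroupOf A.X) := IsPGroup.of_card (n := 3) (by
    rw [Nat.card_congr (subgroupOfEquivOfLe hTX).toEquiv, A.card_T]; norm_num)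
  obtain ⟨Q0, hQ0⟩ := hT2.exists_le_sylow
  have hQ0T : (Q0 : Subgroup A.X).map A.X.subtype = A.T := by
    refine A.T_maximal (Q0.isPGroup'.map _) ?_ (map_subtype_le _)
    rw [← subgroupOf_map_subtype A.T A.X |>.trans (inf_eq_left.2 hTX)]
    exact map_mono hQ0
  have hx2 : IsPGroup 2 ↥(zpowers (⟨x, hx⟩ : A.X)) := by
    intro ⟨y, hy⟩
    obtain ⟨k, rfl⟩ := mem_zpowers_iff.1 hy
    refine ⟨1, Subtype.ext ?_⟩
    show ((⟨x, hx⟩ : A.X) ^ k) ^ (2 ^ 1) = 1
    rw [pow_one, ← zpow_natCast, ← zpow_mul, mul_comm, zpow_mul, zpow_natCast,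
      show (⟨x, hx⟩ : A.X) ^ 2 = 1 from Subtype.ext (by simpa [pow_two] using h2), one_zpow]
  obtain ⟨Q1, hQ1⟩ := hx2.exists_le_sylow
  obtain ⟨g, hg⟩ := MulAction.exists_smul_eq A.X Q1 Q0
  refine ⟨(g : G) * x * (g : G)⁻¹, ?_, g, g.2, rfl⟩
  rw [← hQ0T]
  refine ⟨g * ⟨x, hx⟩ * g⁻¹, ?_, rfl⟩
  rw [← hg, Sylow.coe_subgroup_smul]
  exact ⟨⟨x, hx⟩, hQ1 (mem_zpowers _), rfl⟩

theorem W_conj_w3 {w : G} (hw : w ∈ A.W) (h1 : w ≠ 1) : A.ConjX A.w3 w := by
  obtain ⟨m, hm, e1, e2⟩ := A.exists_cycle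
  rcases A.mem_W_cases hw with rfl | rfl | rfl | rfl
  · exact absurd rfl h1
  · exact ⟨m * m, A.X.mul_mem hm.2 hm.2, by rw [← e2, ← e1]; group⟩
  · exact ⟨m, hm.2, e1⟩
  · exact ⟨1, one_mem _, by group⟩

/-- Two involutions of `T` outside `W`. -/
theorem out_invol {x y : G} (hx : x ∈ A.T) (hxW : x ∉ A.W) (hy : y ∈ A.T) (hyW : y ∉ A.W)
    (x2 : x * x = 1) (y2 : y * y = 1) : y = x ∨ y = x * A.w3 := by
  have hxi : x⁻¹ = x := inv_eq_of_mul_eq_one_right x2
  have hw : x * y ∈ A.W := by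
    refine A.mem_W_of_perm (A.M.mul_mem (A.T_le_M hx) (A.T_le_M hy)) ?_
    rw [A.model.perm_mul _ (A.T_le_M hx).1 _ (A.T_le_M hy).1, A.perm_out hx hxW,
      A.perm_out hy hyW, π2_facts.1]
  have hfix : x * (x * y) * x⁻¹ = x * y := by
    calc x * (x * y) * x⁻¹ = y * x⁻¹ := by rw [← mul_assoc x, x2, one_mul]
      _ = (x * y⁻¹)⁻¹ := by rw [mul_inv_rev, inv_inv]
      _ = x * y := by
        rw [inv_eq_of_mul_eq_one_right y2, inv_eq_of_mul_eq_one_right (A.W_sq hw)]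
  obtain ⟨s1, s2⟩ := A.swap hx hxW
  have e : y = x * (x * y) := by rw [← mul_assoc, x2, one_mul]
  rcases A.mem_W_cases hw with q | q | q | q
  · left; rw [e, q, mul_one]
  · rw [q, s1] at hfix; exact absurd hfix.symm A.W_distinct.1
  · rw [q, s2] at hfix; exact absurd hfix A.W_distinct.1
  · right; rw [e, q]

theorem out_shift {x : G} (hx : x ∈ A.T) (hxW : x ∉ A.W) (x2 : x * x = 1) :
    x * A.w3 ∈ A.T ∧ x * A.w3 ∉ A.W ∧ A.ConjX x (x * A.w3) ∧ (x * A.w3) * (x * A.w3) = 1 := by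
  have hW := A.pairE_W (i := 0) (k := 18) (by decide) (by decide)
  have hW' := A.pairE_W (i := 0) (k := 23) (by decide) (by decide)
  have hxi : x⁻¹ = x := inv_eq_of_mul_eq_one_right x2
  refine ⟨A.T.mul_mem hx (A.W_le_T A.w3_W), fun h => hxW ?_, ⟨A.pairE 0 18, hW.2, ?_⟩, ?_⟩
  · have := A.W.mul_mem h (A.W.inv_mem A.w3_W)
    rwa [mul_inv_cancel_right] at this
  · have s1 := (A.swap hx hxW).1
    rw [hxi] at s1
    rw [inv_eq_of_mul_eq_one_right (A.W_sq hW), w3, ← A.W_mul,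
      Frame.V_comm S.D hW.1 hW'.1, ← s1]
    simp only [← mul_assoc, x2, one_mul]
  · calc x * A.w3 * (x * A.w3) = x * (A.w3 * x) * A.w3 := by group
      _ = x * x * (A.w3 * A.w3) := by rw [← (A.mem_C3.1 hx.1).2]; group
      _ = 1 := by rw [x2, A.W_sq A.w3_W, one_mul]

/-- The chosen conjugate of the central involution. -/
theorem exists_tau : ∃ t ∈ A.T, t ∉ A.W ∧ t * t = 1 ∧ IsConj z t := by
  obtain ⟨u, hu, hz⟩ := A.exists_ztype
  have h2 : u * u = 1 := by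
    obtain ⟨g, rfl⟩ := isConj_iff.1 hz
    rw [show g * z * g⁻¹ * (g * z * g⁻¹) = g * (z * z) * g⁻¹ by group, S.F.z_mul_z]; group
  obtain ⟨t, ht, hc⟩ := A.invol_into_T hu h2
  exact ⟨t, ht, fun h => A.W_notZ h (hz.trans hc.isConj), hc.sq A h2, hz.trans hc.isConj⟩

/-- The chosen conjugate of the central involution. -/
noncomputable def tau : G := A.exists_tau.choose

theorem tau_spec : A.tau ∈ A.T ∧ A.tau ∉ A.W ∧ A.tau * A.tau = 1 ∧ IsConj z A.tau :=
  A.exists_tau.choose_spec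

theorem tau_X : A.tau ∈ A.X := (A.T_le_M A.tau_spec.1).2

theorem classes {x : G} (hx : x ∈ A.X) (h2 : x * x = 1) (h1 : x ≠ 1) :
    A.ConjX A.tau x ∨ A.ConjX A.w3 x := by
  obtain ⟨y, hy, hc⟩ := A.invol_into_T hx h2
  by_cases hW : y ∈ A.W
  · right
    refine (A.W_conj_w3 hW fun e => h1 ?_).trans A (hc.symm A)
    obtain ⟨g, -, rfl⟩ := hc
    exact conj_eq_one_iff.1 e
  · left
    obtain ⟨t1, t2, t3, -⟩ := A.tau_spec
    rcases A.out_invol t1 t2 hy hW t3 (hc.sq A h2) with e | e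
    · exact (e ▸ hc).symm A
    · exact ((A.out_shift t1 t2 t3).2.2.1).trans A ((e ▸ hc).symm A)

theorem not_both {x : G} (h1 : A.ConjX A.tau x) (h2 : A.ConjX A.w3 x) : False :=
  A.W_notZ A.w3_W ((A.tau_spec.2.2.2.trans h1.isConj).trans h2.isConj.symm)

/-- The pairs counted by the order formula. -/
def pairsAt (u : G) : Set (G × G) :=
  {q | A.ConjX A.tau q.1 ∧ A.ConjX A.w3 q.2 ∧ u ∈ zpowers (q.1 * q.2)}

theorem ConjX.mem {a b : G} (h : A.ConjX a b) (ha : a ∈ A.X) : b ∈ A.X := by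
  obtain ⟨g, hg, rfl⟩ := h
  exact A.X.mul_mem (A.X.mul_mem hg ha) (A.X.inv_mem hg)

theorem pairsAt_comm {u : G} (hu : u * u = 1) {q : G × G} (hq : q ∈ A.pairsAt u) :
    q.1 ∈ A.X ∧ q.2 ∈ A.X ∧ q.1 * q.1 = 1 ∧ q.2 * q.2 = 1 ∧ u * q.1 = q.1 * u ∧
      u * q.2 = q.2 * u := by
  obtain ⟨h1, h2, h3⟩ := hq
  have a := h1.sq A A.tau_spec.2.2.1
  have b := h2.sq A (A.W_sq A.w3_W)
  exact ⟨h1.mem A A.tau_X, h2.mem A A.w3_W.2, a, b, comm_of_mem_zpowers a b hu h3⟩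

theorem invol_C3 {x : G} (hx : x ∈ A.C3) (h2 : x * x = 1) : x ∈ A.T := by
  have hm := A.C3_le hx
  refine ⟨hx, hm.1, ?_⟩
  obtain ⟨k, hk, e⟩ := A.perm_C3 hx
  have hsq : A.model.perm x * A.model.perm x = 1 := by
    rw [← A.model.perm_mul _ hm.1 _ hm.1, h2, A.model.perm_one]
  have hc : Commute π2 (σ7 ^ k) := (show Commute π2 σ7 from π2_facts.2.1).pow_right k
  have hk0 : σ7 ^ (2 * k) = 1 := by
    rcases e with e | e <;> rw [e] at hsq
    · rwa [two_mul, pow_add]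
    · rw [show π2 * σ7 ^ k * (π2 * σ7 ^ k) = π2 * π2 * (σ7 ^ k * σ7 ^ k) from
        hc.symm.mul_mul_mul_comm π2 (σ7 ^ k), π2_facts.1, one_mul] at hsq
      rwa [two_mul, pow_add]
  have : k = 0 := by
    have := orderOf_dvd_of_pow_eq_one hk0
    rw [σ7_order] at this
    omega
  subst this
  rcases e with e | e <;> rw [e]
  · rw [pow_zero]; exact one_mem _
  · rw [pow_zero, mul_one]; exact mem_zpowers _

theorem count_w3 : (A.pairsAt A.w3).ncard = 4 := by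
  obtain ⟨t1, t2, t3, t4⟩ := A.tau_spec
  obtain ⟨u1, u2, u3, u4⟩ := A.out_shift t1 t2 t3
  obtain ⟨d1, d2, d3, d4, d5, d6⟩ := A.W_distinct
  have hW := A.pairE_W (i := 0) (k := 18) (by decide) (by decide)
  have hW' := A.pairE_W (i := 0) (k := 23) (by decide) (by decide)
  have hz : ∀ x ∈ A.T, x ∉ A.W → x * x = 1 → ∀ w, (w = A.pairE 0 18 ∨ w = A.pairE 0 23) →
      A.w3 ∈ zpowers (x * w) := by
    intro x hx hxW x2 w hw
    refine mem_zpowers_iff.2 ⟨(2 : ℕ), ?_⟩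
    rw [zpow_natCast, pow_two]
    obtain ⟨s1, s2⟩ := A.swap hx hxW
    rw [inv_eq_of_mul_eq_one_right x2] at s1 s2
    rcases hw with rfl | rfl
    · rw [← mul_assoc, s1, Frame.V_comm S.D hW'.1 hW.1, A.W_mul]
    · rw [← mul_assoc, s2, A.W_mul]
  have hset : A.pairsAt A.w3 = {A.tau, A.tau * A.w3} ×ˢ {A.pairE 0 18, A.pairE 0 23} := by
    ext ⟨a, b⟩
    simp only [Set.mem_prod, Set.mem_insert_iff, Set.mem_singleton_iff]
    constructor
    · intro hq
      obtain ⟨h1, h2, h3, h4, h5, h6⟩ := A.pairsAt_comm (A.W_sq A.w3_W) hq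
      obtain ⟨c1, c2, c3⟩ := hq
      have haT := A.invol_C3 (A.mem_C3.2 ⟨h1, h5.symm⟩) h3
      have hbT := A.invol_C3 (A.mem_C3.2 ⟨h2, h6.symm⟩) h4
      have haW : a ∉ A.W := fun h => A.W_notZ h (t4.trans c1.isConj)
      have ha : a = A.tau ∨ a = A.tau * A.w3 := A.out_invol t1 t2 haT haW t3 h3
      refine ⟨ha, ?_⟩
      have hbW : b ∈ A.W := by
        by_contra h
        rcases A.out_invol t1 t2 hbT h t3 h4 with e | e
        · exact A.not_both ⟨1, one_mem _, by rw [e]; group⟩ c2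
        · exact A.not_both (e ▸ u3) c2
      rcases A.mem_W_cases hbW with e | e | e | e
      · exfalso
        obtain ⟨g, -, hg⟩ := c2
        exact d6 (conj_eq_one_iff.1 (hg.trans e))
      · exact Or.inl e
      · exact Or.inr e
      · exfalso
        obtain ⟨k, hk⟩ := mem_zpowers_iff.1 c3
        simp only at hk
        rw [e] at hk
        have h5' : A.w3 * a = a * A.w3 := h5
        have hsq : a * A.w3 * (a * A.w3) = 1 := by
          calc a * A.w3 * (a * A.w3) = a * (A.w3 * a) * A.w3 := by group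
            _ = a * a * (A.w3 * A.w3) := by rw [h5']; group
            _ = 1 := by rw [h3, A.W_sq A.w3_W, one_mul]
        rcases Int.even_or_odd k with ⟨r, hr⟩ | ⟨r, hr⟩
        · rw [hr, ← two_mul, zpow_mul, zpow_two, hsq, one_zpow] at hk
          exact d6 hk.symm
        · rw [hr, zpow_add, zpow_one, zpow_mul, zpow_two, hsq, one_zpow, one_mul] at hk
          exact haW ((mul_eq_right.1 hk) ▸ one_mem _)
    · rintro ⟨ha, hb⟩
      refine ⟨?_, ?_, ?_⟩
      · rcases ha with rfl | rfl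
        · exact ⟨1, one_mem _, by group⟩
        · exact u3
      · rcases hb with rfl | rfl
        · exact A.W_conj_w3 hW d4
        · exact A.W_conj_w3 hW' d5
      · rcases ha with rfl | rfl
        · exact hz _ t1 t2 t3 b hb
        · exact hz _ u1 u2 u4 b hb
  rw [hset, Set.ncard_prod, Set.ncard_pair d1, Set.ncard_pair fun h => d6 (left_eq_mul.1 h)]

theorem exists_tau_mover : ∃ g : G, g * z * g⁻¹ = A.tau ∧
    ∀ x, x * S.s = S.s * x ↔ g * x * g⁻¹ ∈ A.X :=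
  A.exists_mover A.tau_X A.tau_spec.2.2.2

theorem card_cent_tau : Nat.card ↥(A.X ⊓ centralizer ({A.tau} : Set G)) = 84 := by
  obtain ⟨g, hg, hgX⟩ := A.exists_tau_mover
  have e : S.CX.map (MulAut.conj g).toMonoidHom = A.X ⊓ centralizer ({A.tau} : Set G) := by
    ext x
    rw [mem_map_equiv, MulAut.conj_symm_apply, S.mem_CX, mem_inf, mem_centralizer_singleton_iff,
      mem_centralizer_singleton_iff, hgX, show g * (g⁻¹ * x * g) * g⁻¹ = x by group, ← hg]
    constructor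
    · rintro ⟨h1, h2⟩
      refine ⟨h2, ?_⟩
      calc x * (g * z * g⁻¹) = g * (g⁻¹ * x * g * z) * g⁻¹ := by group
        _ = g * (z * (g⁻¹ * x * g)) * g⁻¹ := by rw [h1]
        _ = g * z * g⁻¹ * x := by group
    · rintro ⟨h1, h2⟩
      refine ⟨?_, h1⟩
      calc g⁻¹ * x * g * z = g⁻¹ * (x * (g * z * g⁻¹)) * g := by group
        _ = g⁻¹ * (g * z * g⁻¹ * x) * g := by rw [h2]
        _ = z * (g⁻¹ * x * g) := by group
  rw [← e, Subgroup.card_map_of_injective (MulAut.conj g).injective, S.card_CX]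

theorem count_tau : (A.pairsAt A.tau).ncard = 9 := by
  obtain ⟨t1, t2, t3, t4⟩ := A.tau_spec
  obtain ⟨u1, u2, u3, u4⟩ := A.out_shift t1 t2 t3
  obtain ⟨d1, d2, d3, d4, d5, d6⟩ := A.W_distinct
  obtain ⟨g, hg, hgX⟩ := A.exists_tau_mover
  set c := g⁻¹ * A.w3 * g with hc
  have htc : A.tau * A.w3 = A.w3 * A.tau := (A.mem_C3.1 t1.1).2
  have hback : ∀ x, x ∈ A.X → x * A.tau = A.tau * x → g⁻¹ * x * g ∈ S.CX := by
    intro x hx hxt
    refine S.mem_CX.2 ⟨mem_centralizer_singleton_iff.2 ?_, (hgX _).2 ?_⟩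
    · calc g⁻¹ * x * g * z = g⁻¹ * (x * (g * z * g⁻¹)) * g := by group
        _ = g⁻¹ * (g * z * g⁻¹ * x) * g := by rw [hg, hxt]
        _ = z * (g⁻¹ * x * g) := by group
    · rwa [show g * (g⁻¹ * x * g) * g⁻¹ = x by group]
  have hcC : c ∈ S.CX := hback _ A.w3_W.2 htc.symm
  have hc2 : c * c = 1 := by
    rw [hc, show g⁻¹ * A.w3 * g * (g⁻¹ * A.w3 * g) = g⁻¹ * (A.w3 * A.w3) * g by group,
      A.W_sq A.w3_W]
    group
  have hc1 : c ≠ 1 := fun e => d6 (by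
    calc A.w3 = g * c * g⁻¹ := by rw [hc]; group
      _ = 1 := by rw [e]; group)
  have hcz : c ≠ z := fun e => A.W_notZ A.w3_W (isConj_iff.2 ⟨g,
    (congrArg (fun v => g * v * g⁻¹) e.symm).trans (by rw [hc]; group)⟩)
  obtain ⟨hinv, hall⟩ := S.invol_CX hcC hc2 hc1 hcz
  have hci : c⁻¹ = c := inv_eq_of_mul_eq_one_right hc2
  have hp3 : S.F.p0 ^ 3 = 1 := S.F.p0_cube
  have hpX : g * S.F.p0 * g⁻¹ ∈ A.X := (hgX _).1 (S.mem_CX.1 S.p_mem_CX).2
  have hcp : ∀ n : ℕ, c * S.F.p0 ^ n = S.F.p0 ^ (2 * n) * c := by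
    intro n
    have h1 : c * S.F.p0 * c⁻¹ = S.F.p0 ^ 2 := by
      rw [hci, hinv, eq_comm]
      exact eq_inv_of_mul_eq_one_left (by rw [← pow_succ]; exact hp3)
    have h2 : c * S.F.p0 ^ n * c⁻¹ = S.F.p0 ^ (2 * n) := by rw [← conj_pow, h1, ← pow_mul]
    rw [← h2, inv_mul_cancel_right]
  have hzp : ∀ n : ℕ, z * S.F.p0 ^ n = S.F.p0 ^ n * z := fun n =>
    (S.F.z_comm (pow_mem S.F.p0_mem_cen n)).symm
  have hcls : ∀ i : ℕ, A.ConjX A.w3 (g * (S.F.p0 ^ i * c) * g⁻¹) ∧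
      A.ConjX A.tau (g * (S.F.p0 ^ i * c * z) * g⁻¹) := by
    intro i
    have hp : (g * S.F.p0 * g⁻¹) ^ (2 * i) ∈ A.X := pow_mem hpX _
    have e0 : S.F.p0 ^ (2 * i) * c * (S.F.p0 ^ (2 * i))⁻¹ = S.F.p0 ^ i * c := by
      have e2 : S.F.p0 ^ i * S.F.p0 ^ (2 * (2 * i)) = S.F.p0 ^ (2 * i) := by
        rw [← pow_add, pow_eq_pow_mod (i + 2 * (2 * i)) hp3, pow_eq_pow_mod (2 * i) hp3,
          show (i + 2 * (2 * i)) % 3 = (2 * i) % 3 by omega]
      rw [mul_inv_eq_iff_eq_mul, mul_assoc (S.F.p0 ^ i) c, hcp, ← mul_assoc (S.F.p0 ^ i), e2]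
    have ez : A.ConjX A.tau (g * (c * z) * g⁻¹) := by
      rw [show g * (c * z) * g⁻¹ = A.tau * A.w3 by rw [htc, hc, ← hg]; group]
      exact u3
    refine ⟨⟨_, hp, ?_⟩, ez.trans A ⟨_, hp, ?_⟩⟩
    · calc (g * S.F.p0 * g⁻¹) ^ (2 * i) * A.w3 * ((g * S.F.p0 * g⁻¹) ^ (2 * i))⁻¹
          = g * (S.F.p0 ^ (2 * i) * c * (S.F.p0 ^ (2 * i))⁻¹) * g⁻¹ := by
            rw [conj_pow, hc]; group
        _ = _ := by rw [e0]
    · calc (g * S.F.p0 * g⁻¹) ^ (2 * i) * (g * (c * z) * g⁻¹) *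
            ((g * S.F.p0 * g⁻¹) ^ (2 * i))⁻¹
          = g * (S.F.p0 ^ (2 * i) * c * (z * (S.F.p0 ^ (2 * i))⁻¹)) * g⁻¹ := by
            rw [conj_pow]; group
        _ = g * (S.F.p0 ^ (2 * i) * c * (S.F.p0 ^ (2 * i))⁻¹ * z) * g⁻¹ := by
            rw [(show Commute z (S.F.p0 ^ (2 * i)) from hzp _).inv_right.eq]; group
        _ = _ := by rw [e0]
  let f : Fin 3 × Fin 3 → G × G := fun k =>
    (g * (S.F.p0 ^ (k.1 : ℕ) * c * z) * g⁻¹, g * (S.F.p0 ^ (k.2 : ℕ) * c) * g⁻¹)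
  have hf : Function.Injective f := by
    intro k l e
    have e1 := mul_left_cancel (mul_right_cancel (congrArg Prod.fst e))
    have e2 := mul_left_cancel (mul_right_cancel (congrArg Prod.snd e))
    have p1 := pow_eq_pow_iff_modEq.1 (mul_right_cancel (mul_right_cancel e1))
    have p2 := pow_eq_pow_iff_modEq.1 (mul_right_cancel e2)
    rw [S.p_order, Nat.ModEq, Nat.mod_eq_of_lt k.1.2, Nat.mod_eq_of_lt l.1.2] at p1
    rw [S.p_order, Nat.ModEq, Nat.mod_eq_of_lt k.2.2, Nat.mod_eq_of_lt l.2.2] at p2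
    exact Prod.ext (Fin.ext p1) (Fin.ext p2)
  have hset : A.pairsAt A.tau = Set.range f := by
    ext ⟨a, b⟩
    constructor
    · intro hq
      obtain ⟨h1, h2, h3, h4, h5, h6⟩ := A.pairsAt_comm t3 hq
      obtain ⟨c1, c2, c3⟩ := hq
      have hform : ∀ x, x ∈ A.X → x * x = 1 → A.tau * x = x * A.tau → x ≠ 1 →
          x = A.tau ∨ ∃ i : Fin 3, x = g * (S.F.p0 ^ (i : ℕ) * c) * g⁻¹ ∨
            x = g * (S.F.p0 ^ (i : ℕ) * c * z) * g⁻¹ := by
        intro x hx hx2 hxt hx1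
        have hy := hback x hx hxt.symm
        by_cases hyz : g⁻¹ * x * g = z
        · left; rw [← hg, ← hyz]; group
        obtain ⟨i, hi, e | e⟩ := hall _ hy (by
            rw [show g⁻¹ * x * g * (g⁻¹ * x * g) = g⁻¹ * (x * x) * g by group, hx2]; group)
          (fun e => hx1 (by
            calc x = g * (g⁻¹ * x * g) * g⁻¹ := by group
              _ = 1 := by rw [e]; group)) hyz
        · exact Or.inr ⟨⟨i, hi⟩, Or.inl (by show x = _; rw [← e]; group)⟩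
        · exact Or.inr ⟨⟨i, hi⟩, Or.inr (by show x = _; rw [← e]; group)⟩
      have ha1 : a ≠ 1 := by
        obtain ⟨k, -, hk⟩ := c1
        intro e
        have hk' : k * A.tau * k⁻¹ = 1 := hk.trans e
        exact t2 (conj_eq_one_iff.1 hk' ▸ one_mem _)
      have hb1 : b ≠ 1 := by
        obtain ⟨k, -, hk⟩ := c2
        intro e
        exact d6 (conj_eq_one_iff.1 (hk.trans e))
      obtain ⟨j, hj⟩ : ∃ j : Fin 3, b = g * (S.F.p0 ^ (j : ℕ) * c) * g⁻¹ := by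
        rcases hform b h2 h4 h6 hb1 with e | ⟨j, e | e⟩
        · exact absurd (e ▸ c2) fun h => A.not_both ⟨1, one_mem _, by group⟩ h
        · exact ⟨j, e⟩
        · exact absurd c2 fun h => A.not_both (e ▸ (hcls j).2) h
      rcases hform a h1 h3 h5 ha1 with e | ⟨i, e | e⟩
      · exfalso
        obtain ⟨k, hk⟩ := mem_zpowers_iff.1 c3
        simp only at hk
        rw [e] at hk
        have h6' : A.tau * b = b * A.tau := h6
        have hsq : A.tau * b * (A.tau * b) = 1 := by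
          calc A.tau * b * (A.tau * b) = A.tau * (b * A.tau) * b := by group
            _ = A.tau * A.tau * (b * b) := by rw [← h6']; group
            _ = 1 := by rw [t3, show b * b = 1 from h4, one_mul]
        rcases Int.even_or_odd k with ⟨r, hr⟩ | ⟨r, hr⟩
        · rw [hr, ← two_mul, zpow_mul, zpow_two, hsq, one_zpow] at hk
          exact t2 (hk ▸ one_mem _)
        · rw [hr, zpow_add, zpow_one, zpow_mul, zpow_two, hsq, one_zpow, one_mul] at hk
          exact hb1 (mul_eq_left.1 hk)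
      · exact absurd c1 fun h => A.not_both h (e ▸ (hcls i).1)
      · exact ⟨(i, j), Prod.ext e.symm hj.symm⟩
    · rintro ⟨⟨i, j⟩, e⟩
      rw [← e]
      refine ⟨(hcls i).2, (hcls j).1, mem_zpowers_iff.2 ⟨(3 : ℕ), ?_⟩⟩
      show (g * (S.F.p0 ^ (i : ℕ) * c * z) * g⁻¹ * (g * (S.F.p0 ^ (j : ℕ) * c) * g⁻¹)) ^ ((3 : ℕ) : ℤ) = _
      have e : S.F.p0 ^ (i : ℕ) * c * z * (S.F.p0 ^ (j : ℕ) * c) =
          S.F.p0 ^ ((i : ℕ) + 2 * j) * z := by
        calc S.F.p0 ^ (i : ℕ) * c * z * (S.F.p0 ^ (j : ℕ) * c)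
            = S.F.p0 ^ (i : ℕ) * c * (z * S.F.p0 ^ (j : ℕ)) * c := by group
          _ = S.F.p0 ^ (i : ℕ) * (c * S.F.p0 ^ (j : ℕ)) * (z * c) := by rw [hzp]; group
          _ = S.F.p0 ^ (i : ℕ) * S.F.p0 ^ (2 * (j : ℕ)) * (c * (z * c)) := by rw [hcp]; group
          _ = _ := by rw [← S.F.z_comm hcC.1, ← mul_assoc c c, hc2, one_mul, pow_add]
      rw [zpow_natCast, show g * (S.F.p0 ^ (i : ℕ) * c * z) * g⁻¹ *
          (g * (S.F.p0 ^ (j : ℕ) * c) * g⁻¹) =
          g * (S.F.p0 ^ (i : ℕ) * c * z * (S.F.p0 ^ (j : ℕ) * c)) * g⁻¹ by group, e, conj_pow,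
        (show Commute (S.F.p0 ^ ((i : ℕ) + 2 * j)) z from (hzp _).symm).mul_pow, ← pow_mul,
        mul_comm _ 3, pow_mul, hp3, one_pow, one_mul, pow_succ, pow_two, S.F.z_mul_z, one_mul, hg]
  rw [hset, ← Set.image_univ, Set.ncard_image_of_injective _ hf, Set.ncard_univ, Nat.card_prod,
    Nat.card_fin]

theorem card_centralizer_mk {x : G} (hx : x ∈ A.X) :
    Nat.card ↥(centralizer ({(⟨x, hx⟩ : A.X)} : Set A.X)) =
      Nat.card ↥(A.X ⊓ centralizer ({x} : Set G)) := by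
  rw [← Subgroup.card_map_of_injective A.X.subtype_injective]
  congr 2
  ext y
  simp only [mem_map, mem_inf, mem_centralizer_singleton_iff, coe_subtype]
  constructor
  · rintro ⟨v, hv, rfl⟩
    exact ⟨v.2, congrArg Subtype.val hv⟩
  · rintro ⟨hy, hc⟩
    exact ⟨⟨y, hy⟩, Subtype.ext hc, rfl⟩

theorem isConj_iff_conjX {x y : A.X} : IsConj x y ↔ A.ConjX x y := by
  rw [isConj_iff]
  exact ⟨fun ⟨g, e⟩ => ⟨g, g.2, congrArg Subtype.val e⟩,
    fun ⟨g, hg, e⟩ => ⟨⟨g, hg⟩, Subtype.ext e⟩⟩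

theorem card_X : Nat.card A.X = 840 := by
  classical
  obtain ⟨t1, t2, t3, t4⟩ := A.tau_spec
  let a : A.X := ⟨A.tau, A.tau_X⟩
  let b : A.X := ⟨A.w3, A.w3_W.2⟩
  have ho : ∀ {x : A.X}, (x : G) * x = 1 → (x : G) ≠ 1 → orderOf x = 2 := fun {x} h h' =>
    (Subgroup.orderOf_coe x).symm.trans (Invol.invol_of_mul_self h h')
  have hao : orderOf a = 2 := ho t3 fun h => t2 ((show A.tau = 1 from h).symm ▸ one_mem _)
  have hbo : orderOf b = 2 := ho (A.W_sq A.w3_W) A.W_distinct.2.2.2.2.2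
  have hab : ¬ IsConj a b := fun h =>
    A.not_both (A.isConj_iff_conjX.1 h) ⟨1, one_mem _, show 1 * A.w3 * 1⁻¹ = A.w3 by group⟩
  have hne : a ≠ b := fun h => hab (h ▸ IsConj.refl a)
  have key := Cfsg.Agent.S1875.result a b hao hbo hab {a, b}
    (fun w hw => by
      simp only [Finset.mem_insert, Finset.mem_singleton] at hw
      rcases hw with rfl | rfl
      · exact hao
      · exact hbo)
    (fun t ht => by
      have h2 : (t : G) * t = 1 := congrArg Subtype.val (Invol.invol_mul_self ht)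
      have h1 : (t : G) ≠ 1 := fun e => Invol.invol_ne_one ht (Subtype.ext e)
      rcases A.classes t.2 h2 h1 with h | h
      · refine ⟨a, by simp, A.isConj_iff_conjX.2 (h.symm A), fun w hw hw' => ?_⟩
        simp only [Finset.mem_insert, Finset.mem_singleton] at hw
        rcases hw with rfl | rfl
        · rfl
        · exact absurd h fun h => A.not_both h ((A.isConj_iff_conjX.1 hw').symm A)
      · refine ⟨b, by simp, A.isConj_iff_conjX.2 (h.symm A), fun w hw hw' => ?_⟩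
        simp only [Finset.mem_insert, Finset.mem_singleton] at hw
        rcases hw with rfl | rfl
        · exact absurd h fun h => A.not_both ((A.isConj_iff_conjX.1 hw').symm A) h
        · rfl)
  have hcount : ∀ w : A.X,
      Nat.card {q : A.X × A.X // IsConj a q.1 ∧ IsConj b q.2 ∧ w ∈ zpowers (q.1 * q.2)} =
        (A.pairsAt w).ncard := by
    intro w
    rw [← Nat.card_coe_set_eq]
    refine Nat.card_congr (Equiv.ofBijective (fun q => ⟨((q.1.1 : G), (q.1.2 : G)),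
      A.isConj_iff_conjX.1 q.2.1, A.isConj_iff_conjX.1 q.2.2.1, ?_⟩) ⟨?_, ?_⟩)
    · obtain ⟨k, hk⟩ := mem_zpowers_iff.1 q.2.2.2
      exact mem_zpowers_iff.2 ⟨k, by simpa using congrArg Subtype.val hk⟩
    · intro q r e
      have e' : ((q.1.1 : G), (q.1.2 : G)) = ((r.1.1 : G), (r.1.2 : G)) := congrArg Subtype.val e
      exact Subtype.ext (Prod.ext (Subtype.ext (congrArg Prod.fst e'))
        (Subtype.ext (congrArg Prod.snd e')))
    · rintro ⟨⟨x, y⟩, h1, h2, h3⟩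
      obtain ⟨k, hk⟩ := mem_zpowers_iff.1 h3
      exact ⟨⟨(⟨x, h1.mem A A.tau_X⟩, ⟨y, h2.mem A A.w3_W.2⟩), A.isConj_iff_conjX.2 h1,
        A.isConj_iff_conjX.2 h2, mem_zpowers_iff.2 ⟨k, Subtype.ext (by simpa using hk)⟩⟩,
        Subtype.ext rfl⟩
  rw [Finset.sum_pair hne, hcount, hcount, A.card_centralizer_mk A.tau_X,
    A.card_centralizer_mk A.w3_W.2, A.card_cent_tau,
    show A.X ⊓ centralizer ({A.w3} : Set G) = A.C3 from rfl, A.card_C3,
    A.count_tau, A.count_w3] at key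
  norm_num at key
  exact_mod_cast key

end Ctx

end CfsgLib.J4Type.Seven
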