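import Cfsg.Agent.Lib.J4Type.Seven.Count

/-!
The centraliser of an element of order seven is a product with a symmetric group of degree five,
and its normaliser induces a group of order three on it.
-/

set_option autoImplicit false
set_option linter.unusedSectionVars false
set_option maxRecDepth 100000

namespace CfsgLib.J4Type.Seven

open Cfsg Subgroup CfsgLib.Golay

variable {G : Type*} [Group G] [Finite G] {z : G} {P : Subgroup G}

/-- An element moving `x` to a power normalises the subgroup it generates. -/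
theorem mem_normalizer_powers {g x : G} (h : g * x * g⁻¹ ∈ zpowers x) :
    g ∈ normalizer (zpowers x : Set G) := by
  have hmap : (zpowers x).map (MulAut.conj g).toMonoidHom = zpowers x := by
    rw [MonoidHom.map_zpowers]
    refine eq_of_le_of_card_ge (zpowers_le.2 h) ?_
    rw [Nat.card_zpowers, Nat.card_zpowers]
    exact (Invol.orderOf_conj_eq g x).ge
  refine mem_normalizer_iff.2 fun y => ⟨fun hy => ?_, fun hy => ?_⟩
  · rw [← hmap]; exact ⟨y, hy, rfl⟩
  · rw [← hmap] at hy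
    obtain ⟨w, hw, e⟩ := hy
    exact (MulAut.conj g).injective e ▸ hw

namespace Ctx

variable {S : Setup z P} (A : Ctx S)

include A in
theorem not_dvd_49 : ¬ 49 ∣ Nat.card G := by
  intro h
  haveI : Fact (Nat.Prime 7) := ⟨by norm_num⟩
  obtain ⟨H, hH, hle⟩ := Sylow.exists_subgroup_card_pow_succ (p := 7) (n := 1)
    (show 7 ^ (1 + 1) ∣ Nat.card G from h) (show Nat.card (zpowers A.a) = 7 ^ 1 by
      rw [Nat.card_zpowers, A.a_order, pow_one])
  have hX : H ≤ A.X := fun x hx => A.mem_X.2 (congrArg Subtype.val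
    (IsPGroup.commutative_of_card_eq_prime_sq (G := H) (p := 7) hH ⟨x, hx⟩
      ⟨A.a, hle (mem_zpowers _)⟩))
  have hd := card_dvd_of_le hX
  rw [hH, A.card_X] at hd
  norm_num at hd

theorem W_conj_M {w : G} (hw : w ∈ A.W) (h1 : w ≠ 1) : ∃ k ∈ A.M, k * w * k⁻¹ = A.w3 := by
  obtain ⟨m, hm, e1, e2⟩ := A.exists_cycle
  rcases A.mem_W_cases hw with rfl | rfl | rfl | rfl
  · exact absurd rfl h1
  · exact ⟨(m * m)⁻¹, A.M.inv_mem (A.M.mul_mem hm hm), by rw [← e2, ← e1]; group⟩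
  · exact ⟨m⁻¹, A.M.inv_mem hm, by rw [← e1]; group⟩
  · exact ⟨1, one_mem _, by group⟩

/-- The conjugates of the fixed element in `M` lie in `W`. -/
theorem tType_M {y : G} (hy : y ∈ A.M) (h : A.ConjX A.w3 y) : y ∈ A.W := by
  have y2 : y * y = 1 := h.sq A (A.W_sq A.w3_W)
  have hyi : y⁻¹ = y := inv_eq_of_mul_eq_one_right y2
  have hv : y * A.w3 * y⁻¹ ∈ A.W := A.M_W hy A.w3_W
  obtain ⟨w, hw, h1, hc⟩ : ∃ w ∈ A.W, w ≠ 1 ∧ y * w * y⁻¹ = w := by
    by_cases e : y * A.w3 * y⁻¹ = A.w3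
    · exact ⟨A.w3, A.w3_W, A.W_distinct.2.2.2.2.2, e⟩
    · refine ⟨A.w3 * (y * A.w3 * y⁻¹), A.W.mul_mem A.w3_W hv, fun e' => e ?_, ?_⟩
      · rw [← inv_eq_of_mul_eq_one_right e']
        exact inv_eq_of_mul_eq_one_right (A.W_sq A.w3_W)
      · rw [Frame.V_comm S.D A.w3_W.1 hv.1]
        rw [hyi]
        calc y * (y * A.w3 * y * A.w3) * y = y * y * A.w3 * (y * A.w3 * y) := by group
          _ = A.w3 * (y * A.w3 * y) := by rw [y2, one_mul]
          _ = y * A.w3 * y * A.w3 := by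
            have := Frame.V_comm S.D A.w3_W.1 hv.1
            rwa [hyi] at this
  obtain ⟨k, hk, hk3⟩ := A.W_conj_M hw h1
  set y' := k * y * k⁻¹ with hy'
  have hy'C : y' ∈ A.C3 := A.mem_C3.2 ⟨A.X.mul_mem (A.X.mul_mem hk.2 hy.2) (A.X.inv_mem hk.2), by
    show y' * A.w3 = A.w3 * y'
    rw [← hk3, hy']
    calc k * y * k⁻¹ * (k * w * k⁻¹) = k * (y * w * y⁻¹) * y * k⁻¹ := by group
      _ = k * w * k⁻¹ * (k * y * k⁻¹) := by rw [hc]; group⟩
  have hy'2 : y' * y' = 1 := by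
    rw [hy', show k * y * k⁻¹ * (k * y * k⁻¹) = k * (y * y) * k⁻¹ by group, y2]; group
  have hc' : A.ConjX A.w3 y' := h.trans A ⟨k, hk.2, rfl⟩
  have hyW' : y' ∈ A.W := by
    by_contra hW
    obtain ⟨t1, t2, t3, -⟩ := A.tau_spec
    rcases A.out_invol t1 t2 (A.invol_C3 hy'C hy'2) hW t3 hy'2 with e | e
    · exact A.not_both ⟨1, one_mem _, by rw [e]; group⟩ hc'
    · exact A.not_both (e ▸ (A.out_shift t1 t2 t3).2.2.1) hc'
  have := A.M_W (A.M.inv_mem hk) hyW'
  rwa [hy', show k⁻¹ * (k * y * k⁻¹) * k⁻¹⁻¹ = y by group] at this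

theorem w3_not_core : ¬ ∀ g ∈ A.X, g * A.w3 * g⁻¹ ∈ A.M := by
  intro h
  have horb := Five.card_orbit_mul A.X A.w3
  rw [A.card_X, show A.X ⊓ centralizer ({A.w3} : Set G) = A.C3 from rfl, A.card_C3] at horb
  have hsub : {v : G | ∃ g ∈ A.X, g * A.w3 * g⁻¹ = v} ⊆ (A.W : Set G) := by
    rintro _ ⟨g, hg, rfl⟩
    exact A.tType_M (h g hg) ⟨g, hg, rfl⟩
  have hle := Set.ncard_le_ncard hsub (Set.toFinite _)
  rw [← Nat.card_coe_set_eq (A.W : Set G), SetLike.coe_sort_coe, A.card_W] at hle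
  omega

/-- An element whose conjugates stay in `M` and which centralises `W` is a power of `a`. -/
theorem core_element {x : G} (hx : ∀ g ∈ A.X, g * x * g⁻¹ ∈ A.M) : x ∈ zpowers A.a := by
  by_contra hnot
  have hxM : x ∈ A.M := by simpa using hx 1 (one_mem _)
  -- the elements with this property form a subgroup invariant under conjugation
  let K : Subgroup G :=
    { carrier := {y | ∀ g ∈ A.X, g * y * g⁻¹ ∈ A.M}
      one_mem' := fun g _ => by simp [A.M.one_mem]
      mul_mem' := fun {p q} hp hq g hg => by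
        rw [show g * (p * q) * g⁻¹ = g * p * g⁻¹ * (g * q * g⁻¹) by group]
        exact A.M.mul_mem (hp g hg) (hq g hg)
      inv_mem' := fun {p} hp g hg => by
        rw [show g * p⁻¹ * g⁻¹ = (g * p * g⁻¹)⁻¹ by group]
        exact A.M.inv_mem (hp g hg) }
  have hK : ∀ y, y ∈ K ↔ ∀ g ∈ A.X, g * y * g⁻¹ ∈ A.M := fun _ => Iff.rfl
  have hKc : ∀ y ∈ K, ∀ k ∈ A.X, k * y * k⁻¹ ∈ K := fun y hy k hk g hg => by
    rw [show g * (k * y * k⁻¹) * g⁻¹ = g * k * y * (g * k)⁻¹ by group]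
    exact hy (g * k) (A.X.mul_mem hg hk)
  have hKW : ∀ w ∈ A.W, w ∈ K → w = 1 := by
    intro w hw hwK
    by_contra h1
    obtain ⟨k, hk, e⟩ := A.W_conj_M hw h1
    exact A.w3_not_core ((hK _).1 (e ▸ hKc w hwK k hk.2))
  have hcomm : ∀ w ∈ A.W, x * w * x⁻¹ = w := by
    intro w hw
    refine mul_inv_eq_one.1 (hKW _ (A.W.mul_mem (A.M_W hxM hw) (A.W.inv_mem hw)) ?_)
    rw [show x * w * x⁻¹ * w⁻¹ = x * (w * x⁻¹ * w⁻¹) by group]
    exact K.mul_mem ((hK x).2 hx) (hKc _ (K.inv_mem ((hK x).2 hx)) w hw.2)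
  have hxC : x ∈ A.C3 := A.mem_C3.2 ⟨hxM.2, mul_inv_eq_iff_eq_mul.1 (hcomm _ A.w3_W)⟩
  obtain ⟨k, -, e | e⟩ := A.perm_C3 hxC
  · have hy : x * (A.a ^ k)⁻¹ ∈ A.W := by
      refine A.mem_W_of_perm (A.M.mul_mem hxM (A.M.inv_mem (A.M.pow_mem ⟨A.a_norm, A.a_mem_X⟩ k))) ?_
      have h1 : A.model.perm (x * (A.a ^ k)⁻¹) * A.model.perm (A.a ^ k) = A.model.perm x := by
        rw [← A.model.perm_mul _ (mul_mem hxM.1 (inv_mem (pow_mem A.a_norm k))) _
          (pow_mem A.a_norm k), inv_mul_cancel_right]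
      rw [perm_pow A.model A.a_norm, A.a_perm, e] at h1
      exact mul_eq_right.1 h1
    have haK : A.a ^ k ∈ K := fun g hg => by
      rw [((show Commute g A.a from A.mem_X.1 hg).pow_right k).eq, mul_inv_cancel_right]
      exact A.M.pow_mem ⟨A.a_norm, A.a_mem_X⟩ k
    have := hKW _ hy (K.mul_mem ((hK x).2 hx) (K.inv_mem haK))
    exact hnot (mul_inv_eq_one.1 this ▸ pow_mem (mem_zpowers _) k)
  · have h18 : (σ7 ^ k) (pt 18) = pt 18 := by
      induction k generalizing x with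
      | zero => rfl
      | succ k ih => exact Equiv.Perm.pow_apply_eq_self_of_apply_eq_self σ7_fixed.2.1 _
    have h0 : (σ7 ^ k) (pt 0) = pt 0 :=
      Equiv.Perm.pow_apply_eq_self_of_apply_eq_self σ7_fixed.1 _
    have hh := hcomm _ (A.pairE_W (i := 0) (k := 18) (by decide) (by decide))
    rw [pairE, A.conj_pairE hxM.1, e, Equiv.Perm.mul_apply, Equiv.Perm.mul_apply, h0, h18,
      π2_facts.2.2.1, π2_facts.2.2.2.1] at hh
    exact A.W_distinct.1 hh.symm

/-- The complement of order 120. -/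
theorem exists_factor : ∃ I : Subgroup G, IsInternalDirectProduct (zpowers A.a) I A.X ∧
    Nonempty (↥I ≃* Equiv.Perm (Fin 5)) := by
  classical
  set a : ↥A.X := ⟨A.a, A.a_mem_X⟩
  have hao : orderOf a = 7 := (Subgroup.orderOf_mk _ _).trans A.a_order
  haveI : (zpowers a).Normal := ⟨fun n hn g => by
    obtain ⟨k, rfl⟩ := mem_zpowers_iff.1 hn
    have hc : Commute g a := Subtype.ext (A.mem_X.1 g.2)
    rw [(hc.zpow_right k).eq, mul_inv_cancel_right]
    exact mem_zpowers_iff.2 ⟨k, rfl⟩⟩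
  have hc1 := card_mul_index (zpowers a)
  rw [Nat.card_zpowers, hao, A.card_X] at hc1
  obtain ⟨J0, hJ0⟩ := exists_right_complement'_of_coprime (N := zpowers a) (by
    rw [Nat.card_zpowers, hao, show (zpowers a).index = 120 by omega]; norm_num)
  have hJ0c : Nat.card J0 = 120 := by
    have := hJ0.card_mul_card
    rw [Nat.card_zpowers, hao, A.card_X] at this
    omega
  set J : Subgroup G := J0.map A.X.subtype with hJdef
  have hJc : Nat.card J = 120 := by
    rw [hJdef, Subgroup.card_map_of_injective A.X.subtype_injective, hJ0c]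
  have hJX : J ≤ A.X := map_subtype_le _
  have hQX : zpowers A.a ≤ A.X := zpowers_le.2 A.a_mem_X
  have hcomm : ∀ x ∈ zpowers A.a, ∀ y ∈ J, x * y = y * x := by
    intro x hx y hy
    obtain ⟨k, rfl⟩ := mem_zpowers_iff.1 hx
    exact ((show Commute y A.a from A.mem_X.1 (hJX hy)).zpow_right k).eq.symm
  have hdis : zpowers A.a ⊓ J = ⊥ := (Subgroup.inf_eq_bot_of_coprime (by
    rw [Nat.card_zpowers, A.a_order, hJc]; norm_num))
  have hsup : zpowers A.a ⊔ J = A.X := by
    refine eq_of_le_of_card_ge (sup_le hQX hJX) ?_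
    refine Nat.le_of_dvd Nat.card_pos ?_
    have h7 : 7 ∣ Nat.card (zpowers A.a ⊔ J : Subgroup G) := by
      rw [← A.a_order, ← Nat.card_zpowers]; exact card_dvd_of_le le_sup_left
    have h120 : 120 ∣ Nat.card (zpowers A.a ⊔ J : Subgroup G) := by
      rw [← hJc]; exact card_dvd_of_le le_sup_right
    rw [A.card_X, show 840 = 7 * 120 by norm_num]
    exact Nat.Coprime.mul_dvd_of_dvd_of_dvd (by norm_num) h7 h120
  refine ⟨J, ⟨hQX, hJX, hcomm, hdis, hsup⟩, ?_⟩
  -- the action on the cosets of `M`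
  set M' : Subgroup A.X := A.M.subgroupOf A.X
  have hM' : M'.index = 5 := by
    have h := card_mul_index M'
    rw [Nat.card_congr (subgroupOfEquivOfLe (show A.M ≤ A.X from inf_le_right)).toEquiv, A.card_M,
      A.card_X] at h
    omega
  have hq : Nat.card (↥A.X ⧸ M') = 5 := by rw [← hM', index_eq_card]
  let e5 : (↥A.X ⧸ M') ≃ Fin 5 := (Finite.equivFin _).trans (finCongr hq)
  let φ : ↥J0 →* Equiv.Perm (Fin 5) :=
    (e5.permCongrHom.toMonoidHom.comp (MulAction.toPermHom ↥A.X (↥A.X ⧸ M'))).comp J0.subtype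
  have hinj : Function.Injective φ := by
    rw [← MonoidHom.ker_eq_bot_iff, Subgroup.eq_bot_iff_forall]
    intro x hx
    have hx' : (x : A.X) ∈ (MulAction.toPermHom ↥A.X (↥A.X ⧸ M')).ker := by
      rw [MonoidHom.mem_ker] at hx ⊢
      exact e5.permCongrHom.injective (hx.trans (map_one _).symm)
    rw [← Subgroup.normalCore_eq_ker] at hx'
    have hmem : ((x : A.X) : G) ∈ zpowers A.a := A.core_element fun g hg => by
      have := hx' ⟨g, hg⟩
      exact mem_subgroupOf.1 this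
    have : ((x : A.X) : G) ∈ zpowers A.a ⊓ J := ⟨hmem, ⟨x, x.2, rfl⟩⟩
    rw [hdis, mem_bot] at this
    exact Subtype.ext (Subtype.ext this)
  have hbij : Function.Bijective φ := hinj.bijective_of_nat_card_le (by
    rw [hJ0c, Nat.card_perm, Nat.card_fin]; decide)
  exact ⟨(J0.equivMapOfInjective _ A.X.subtype_injective).symm.trans (MulEquiv.ofBijective φ hbij)⟩

/-- No element inverts `a`. -/
theorem no_inversion {g : G} (hg : g * A.a * g⁻¹ = A.a⁻¹) : False := by
  have hgX : ∀ x ∈ A.X, g * x * g⁻¹ ∈ A.X := fun x hx => A.mem_X.2 (by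
    have hc : Commute x A.a⁻¹ := (show Commute x A.a from A.mem_X.1 hx).inv_right
    have ha : g * A.a⁻¹ * g⁻¹ = A.a := by
      rw [show g * A.a⁻¹ * g⁻¹ = (g * A.a * g⁻¹)⁻¹ by group, hg, inv_inv]
    calc g * x * g⁻¹ * A.a = g * x * g⁻¹ * (g * A.a⁻¹ * g⁻¹) := by rw [ha]
      _ = g * (x * A.a⁻¹) * g⁻¹ := by group
      _ = g * (A.a⁻¹ * x) * g⁻¹ := by rw [hc.eq]
      _ = g * A.a⁻¹ * g⁻¹ * (g * x * g⁻¹) := by group
      _ = _ := by rw [ha])
  obtain ⟨x, hx, e⟩ : A.ConjX A.w3 (g * A.w3 * g⁻¹) := by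
    rcases A.classes (hgX _ A.w3_W.2) (by
        rw [show g * A.w3 * g⁻¹ * (g * A.w3 * g⁻¹) = g * (A.w3 * A.w3) * g⁻¹ by group,
          A.W_sq A.w3_W]; group)
      (fun h => A.W_distinct.2.2.2.2.2 (conj_eq_one_iff.1 h)) with h | h
    · exact absurd ((A.tau_spec.2.2.2.trans h.isConj).trans (isConj_iff.2 ⟨g⁻¹, by group⟩))
        (A.W_notZ A.w3_W)
    · exact h
  set h := x⁻¹ * g with hh
  have hw : h ∈ centralizer ({A.w3} : Set G) := by
    refine mem_centralizer_singleton_iff.2 (mul_inv_eq_iff_eq_mul.1 ?_)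
    calc h * A.w3 * h⁻¹ = x⁻¹ * (g * A.w3 * g⁻¹) * x := by rw [hh]; group
      _ = A.w3 := by rw [← e]; group
  have hN : h ∈ normalizer (S.D.V : Set G) :=
    Frame.centralizer_pairV_le S.D S.fused (A.W_pairV A.w3_W A.W_distinct.2.2.2.2.2) hw
  have hinv : h * A.a * h⁻¹ = A.a⁻¹ := by
    have hc : Commute x⁻¹ A.a⁻¹ := (show Commute x A.a from A.mem_X.1 hx).inv_left.inv_right
    calc h * A.a * h⁻¹ = x⁻¹ * (g * A.a * g⁻¹) * x := by rw [hh]; group
      _ = A.a⁻¹ * x⁻¹ * x := by rw [hg, hc.eq]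
      _ = A.a⁻¹ := by group
  set π := A.model.perm h with hπ
  have hc : π * σ7 = σ7⁻¹ * π := by
    have h1 : A.model.perm (h * A.a) = A.model.perm (A.a⁻¹ * h) := by
      rw [← hinv]; congr 1; group
    have hai : A.model.perm A.a⁻¹ = σ7⁻¹ := by
      refine eq_inv_of_mul_eq_one_left ?_
      rw [← A.a_perm, ← A.model.perm_mul _ (inv_mem A.a_norm) _ A.a_norm, inv_mul_cancel,
        A.model.perm_one]
    rwa [A.model.perm_mul _ hN _ A.a_norm, A.model.perm_mul _ (inv_mem A.a_norm) _ hN, A.a_perm,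
      hai] at h1
  have hfix : ∀ {p : GolayPt}, σ7 p = p → σ7 (π p) = π p := fun {p} hp => by
    have := congrArg (fun f : Equiv.Perm GolayPt => σ7 (f p)) hc
    simp only [Equiv.Perm.mul_apply, hp] at this
    rw [← Equiv.Perm.mul_apply σ7 σ7⁻¹, mul_inv_cancel, Equiv.Perm.one_apply] at this
    exact this
  obtain ⟨f0, f18, f23⟩ := σ7_fixed
  have e' := A.conj_pairE hN (pt 18) (pt 23)
  rw [show h * Frame.vE S.D (NV.pv (pt 18) (pt 23)) * h⁻¹ = Frame.vE S.D (NV.pv (pt 18) (pt 23)) from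
    mul_inv_eq_iff_eq_mul.2 (mem_centralizer_singleton_iff.1 hw)] at e'
  have e'' := Frame.vE_injOn S.D (NV.pv_lt _ _) (NV.pv_lt _ _) e'
  rw [← hπ] at e''
  have hne : π (pt 18) ≠ π (pt 23) := fun h =>
    absurd (pt_inj (by norm_num) (by norm_num) (π.injective h)) (by norm_num)
  have hd : NV.pv (pt 18) (pt 23) ≠ NV.pv (pt 0) (pt 18) ∧
      NV.pv (pt 18) (pt 23) ≠ NV.pv (pt 0) (pt 23) ∧
      NV.pv (pt 18) (pt 23) ≠ NV.pv (pt 18) (pt 0) ∧
      NV.pv (pt 18) (pt 23) ≠ NV.pv (pt 23) (pt 0) := by decide +kernel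
  have hp : π (pt 18) = pt 18 ∧ π (pt 23) = pt 23 ∨ π (pt 18) = pt 23 ∧ π (pt 23) = pt 18 := by
    rcases fixed_cases (hfix f18) with a | a | a <;>
      rcases fixed_cases (hfix f23) with b | b | b <;> rw [a, b] at e'' hne
    all_goals first
      | exact absurd rfl hne
      | exact Or.inl ⟨a, b⟩
      | exact Or.inr ⟨a, b⟩
      | exact absurd e'' hd.1
      | exact absurd e'' hd.2.1
      | exact absurd e'' hd.2.2.1
      | exact absurd e'' hd.2.2.2
  have h0 : π (pt 0) = pt 0 := by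
    rcases fixed_cases (hfix f0) with q | q | q
    · exact q
    all_goals
      exfalso
      rcases hp with ⟨a, b⟩ | ⟨a, b⟩
      · have := π.injective (q.trans (by first | exact a.symm | exact b.symm))
        exact absurd (pt_inj (by norm_num) (by norm_num) this) (by norm_num)
      · have := π.injective (q.trans (by first | exact a.symm | exact b.symm))
        exact absurd (pt_inj (by norm_num) (by norm_num) this) (by norm_num)
  have hπm : π ∈ M24 := A.model.perm_mem h hN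
  rcases hp with ⟨a, b⟩ | ⟨a, b⟩
  · exact not_inverting hπm hc h0 a b
  · obtain ⟨q1, q2, q3, q4, q5⟩ := π2_facts
    refine not_inverting (π := π2 * π) (M24.mul_mem π2_mem hπm) ?_
      (by rw [Equiv.Perm.mul_apply, h0, q3]) (by rw [Equiv.Perm.mul_apply, a, q5])
      (by rw [Equiv.Perm.mul_apply, b, q4])
    rw [mul_assoc, hc, ← mul_assoc, ← mul_assoc,
      (show Commute π2 σ7⁻¹ from (show Commute π2 σ7 from q2).inv_right).eq]

theorem exists_fourth : ∃ l : G, l * A.a * l⁻¹ = A.a ^ 4 := by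
  obtain ⟨l, -, -, hl⟩ := Local57.exists_moving S.F S.s_mem S.s_odd inL_n7 4 (by
    have hm : ∀ n, S.F.mat (S.s ^ n) = List.foldr mm idM (List.replicate n m7) := by
      intro n
      induction n with
      | zero => simpa using S.F.mat_one
      | succ n ih =>
        rw [pow_succ', S.F.mat_mul _ S.s_mem.1 _ (pow_mem S.s_mem.1 n), ih, S.s_mat,
          List.replicate_succ, List.foldr_cons]
    have e4 : mm m7 (mm m7 (mm m7 (mm m7 idM))) = mm m7 (mm m7 (mm m7 m7)) := by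
      rw [inL_m7.mm_idM]
    rw [hm 4, S.s_mat, Three.eqM_sound fourth_ok]
    exact congrArg (mm · n7) e4.symm)
  refine ⟨A.e * l * A.e⁻¹, ?_⟩
  rw [← A.conj_a, conj_pow]
  calc A.e * l * A.e⁻¹ * (A.e * S.s ^ A.j * A.e⁻¹) * (A.e * l * A.e⁻¹)⁻¹
      = A.e * (l * S.s ^ A.j * l⁻¹) * A.e⁻¹ := by group
    _ = _ := by rw [← conj_pow, hl, ← pow_mul, ← pow_mul, mul_comm]

theorem card_normalizer : Nat.card ↥(normalizer (zpowers A.a : Set G)) = 2520 := by
  set N := normalizer (zpowers A.a : Set G) with hNdef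
  have hX : A.X ≤ N := fun g hg => mem_normalizer_powers (by
    rw [A.mem_X.1 hg, mul_inv_cancel_right]; exact mem_zpowers _)
  rw [Five.card_orbit_mul N A.a, show N ⊓ centralizer ({A.a} : Set G) = A.X from
    le_antisymm inf_le_right (le_inf hX le_rfl), A.card_X]
  obtain ⟨l, hl⟩ := A.exists_fourth
  have hlN : l ∈ N := mem_normalizer_powers (hl ▸ pow_mem (mem_zpowers _) 4)
  have h2 : (l * l) * A.a * (l * l)⁻¹ = A.a ^ 2 := by
    calc (l * l) * A.a * (l * l)⁻¹ = l * (l * A.a * l⁻¹) * l⁻¹ := by group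
      _ = (A.a ^ 4) ^ 4 := by rw [hl, ← conj_pow, hl]
      _ = A.a ^ 2 := by rw [← pow_mul, pow_eq_pow_mod (4 * 4) A.a_seven]
  have hno : ∀ g : G, g * A.a * g⁻¹ ≠ A.a ^ 6 := fun g e => A.no_inversion (g := g) (by
    rw [e]
    exact eq_inv_of_mul_eq_one_left (by rw [← pow_succ]; exact A.a_seven))
  have he : {v : G | ∃ h ∈ N, h * A.a * h⁻¹ = v} = {A.a, A.a ^ 2, A.a ^ 4} := by
    ext v
    simp only [Set.mem_insert_iff, Set.mem_singleton_iff]
    constructor
    · rintro ⟨h, hh, rfl⟩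
      obtain ⟨k, hk⟩ := (isOfFinOrder_of_finite A.a).mem_powers_iff_mem_zpowers.2
        ((mem_normalizer_iff.1 hh _).1 (mem_zpowers _))
      change A.a ^ k = h * A.a * h⁻¹ at hk
      rw [pow_eq_pow_mod k A.a_seven] at hk
      have := Nat.mod_lt k (show 0 < 7 by norm_num)
      interval_cases k % 7
      · exact absurd (conj_eq_one_iff.1 (hk.symm.trans (pow_zero _))) A.a_ne
      · exact Or.inl (by rw [← hk, pow_one])
      · exact Or.inr (Or.inl hk.symm)
      · exfalso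
        refine hno (h * (l * l)) ?_
        calc h * (l * l) * A.a * (h * (l * l))⁻¹ = h * (l * l * A.a * (l * l)⁻¹) * h⁻¹ := by group
          _ = A.a ^ 6 := by rw [h2, ← conj_pow, ← hk, ← pow_mul]
      · exact Or.inr (Or.inr hk.symm)
      · exfalso
        refine hno (h * l) ?_
        calc h * l * A.a * (h * l)⁻¹ = h * (l * A.a * l⁻¹) * h⁻¹ := by group
          _ = A.a ^ 6 := by rw [hl, ← conj_pow, ← hk, ← pow_mul, pow_eq_pow_mod (5 * 4) A.a_seven]
      · exact absurd hk.symm (hno h)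
    · rintro (rfl | rfl | rfl)
      · exact ⟨1, one_mem _, by group⟩
      · exact ⟨l * l, N.mul_mem hlN hlN, h2⟩
      · exact ⟨l, hlN, hl⟩
  have hd : ∀ i j : ℕ, i < 7 → j < 7 → i ≠ j → A.a ^ i ≠ A.a ^ j := fun i j hi hj hne e => hne (by
    rwa [pow_eq_pow_iff_modEq, A.a_order, Nat.ModEq, Nat.mod_eq_of_lt hi, Nat.mod_eq_of_lt hj] at e)
  rw [he, Set.ncard_insert_of_notMem (by
      rintro (e | e)
      · exact hd 1 2 (by norm_num) (by norm_num) (by norm_num) (by rw [pow_one]; exact e)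
      · exact hd 1 4 (by norm_num) (by norm_num) (by norm_num) (by rw [pow_one]; exact e))
      (Set.toFinite _),
    Set.ncard_pair (hd 2 4 (by norm_num) (by norm_num) (by norm_num))]

end Ctx

end CfsgLib.J4Type.Seven
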