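import Cfsg.Agent.Lib.J4Type.Seven.Data

/-!
The permutation of order seven on the 24 points and its centraliser fixing its fixed points.
-/

set_option autoImplicit false
set_option maxRecDepth 100000

namespace CfsgLib.J4Type.Seven

open Cfsg CfsgLib.Golay
open scoped Pointwise

/-- The permutation of order seven. -/
noncomputable def σ7 : Equiv.Perm GolayPt := permOf code7

theorem σ7_mem : σ7 ∈ M24 := inM24_mem code_mem.2.1

theorem iter_spec {g : ℕ} (h : valid g = true) (n : ℕ) {i : ℕ} (hi : i < 24) :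
    iter g n i < 24 ∧ (permOf g ^ n) (pt i) = pt (iter g n i) := by
  induction n with
  | zero => exact ⟨hi, rfl⟩
  | succ n ih =>
    refine ⟨valid_lt h ih.1, ?_⟩
    rw [pow_succ', Equiv.Perm.mul_apply, ih.2, permOf_pt h ih.1]
    rfl

theorem perm_ext {f g : Equiv.Perm GolayPt} (h : ∀ i < 24, f (pt i) = g (pt i)) : f = g :=
  Equiv.ext fun p => by rw [← pt_idx p]; exact h _ (idx_lt p)

theorem pt_inj {i j : ℕ} (hi : i < 24) (hj : j < 24) (h : pt i = pt j) : i = j := by
  rw [← idx_pt hi, h, idx_pt hj]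

theorem valid7 : valid code7 = true := inM24_valid code_mem.2.1

theorem code_row {i : ℕ} (hi : i < 24) :
    iter code21 24 i = img code7 i ∧ iter code7 7 i = i ∧ iter code2 2 i = i ∧
    img code2 (img code7 i) = img code7 (img code2 i) ∧
    img code3 (img code7 i) = img code7 (img code3 i) := by
  have h := List.all_eq_true.1 code_powers.1 i (List.mem_range.2 hi)
  simp only [Bool.and_eq_true] at h
  exact ⟨Nat.eq_of_beq_eq_true h.1.1.1.1, Nat.eq_of_beq_eq_true h.1.1.1.2,
    Nat.eq_of_beq_eq_true h.1.1.2, Nat.eq_of_beq_eq_true h.1.2, Nat.eq_of_beq_eq_true h.2⟩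

theorem σ7_pow_seven : σ7 ^ 7 = 1 :=
  perm_ext fun i hi => by
    rw [σ7, (iter_spec valid7 7 hi).2, (code_row hi).2.1]
    rfl

theorem σ7_ne : σ7 ≠ 1 := fun h => by
  have e : σ7 (pt 1) = pt 1 := by rw [h]; rfl
  rw [σ7, permOf_pt valid7 (by norm_num)] at e
  exact code_values.2.2.2.1 (pt_inj (valid_lt valid7 (by norm_num)) (by norm_num) e)

theorem σ7_order : orderOf σ7 = 7 := by
  haveI : Fact (Nat.Prime 7) := ⟨by norm_num⟩
  exact orderOf_eq_prime σ7_pow_seven σ7_ne

theorem σ7_fixed : σ7 (pt 0) = pt 0 ∧ σ7 (pt 18) = pt 18 ∧ σ7 (pt 23) = pt 23 := by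
  refine ⟨?_, ?_, ?_⟩ <;> rw [σ7, permOf_pt valid7 (by norm_num)]
  · rw [code_values.1]
  · rw [code_values.2.1]
  · rw [code_values.2.2.1]

theorem fixed_cases {p : GolayPt} (h : σ7 p = p) : p = pt 0 ∨ p = pt 18 ∨ p = pt 23 := by
  have hi := idx_lt p
  rw [← pt_idx p] at h
  rw [σ7, permOf_pt valid7 hi] at h
  have hm := List.all_eq_true.1 cycles_ok.2 _ (List.mem_range.2 hi)
  simp only [Bool.or_eq_true, Bool.and_eq_true, Bool.not_eq_true'] at hm
  rcases hm with ((e | e) | e) | ⟨e, -⟩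
  · exact Or.inl (by rw [← pt_idx p, Nat.eq_of_beq_eq_true e])
  · exact Or.inr (Or.inl (by rw [← pt_idx p, Nat.eq_of_beq_eq_true e]))
  · exact Or.inr (Or.inr (by rw [← pt_idx p, Nat.eq_of_beq_eq_true e]))
  · rw [pt_inj (valid_lt valid7 hi) hi h, Nat.beq_refl] at e
    exact Bool.noConfusion e

/-! ### Codes of permutations -/

theorem img_encL : ∀ {l : List ℕ}, (∀ a ∈ l, a < 32) → ∀ i < l.length, img (encL l) i = l.getD i 0
  | [], _, i, hi => absurd hi (Nat.not_lt_zero i)
  | a :: l, hl, 0, _ => by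
    show Nat.land (Nat.shiftRight (a + 32 * encL l) 0) 31 = a
    have ha := hl a List.mem_cons_self
    show (a + 32 * encL l) >>> 0 &&& 31 = a
    rw [Nat.shiftRight_zero, show (31 : ℕ) = 2 ^ 5 - 1 by norm_num, Nat.and_two_pow_sub_one_eq_mod]
    omega
  | a :: l, hl, i + 1, hi => by
    have ih := img_encL (fun b hb => hl b (List.mem_cons_of_mem _ hb)) i (Nat.lt_of_succ_lt_succ hi)
    rw [List.getD_cons_succ, ← ih]
    have ha := hl a List.mem_cons_self
    show (a + 32 * encL l) >>> (5 * (i + 1)) &&& 31 = (encL l) >>> (5 * i) &&& 31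
    rw [show 5 * (i + 1) = 5 + 5 * i by ring, Nat.shiftRight_add]
    congr 2
    rw [Nat.shiftRight_eq_div_pow]
    omega

theorem inM24_of_perm {π : Equiv.Perm GolayPt} (hπ : π ∈ M24) {g : ℕ}
    (hg : ∀ i < 24, π (pt i) = pt (img g i) ∧ img g i < 24) : inM24 g = true := by
  have hv : valid g = true := by
    have e : mimg g 16777215 = 16777215 := by
      refine Nat.eq_of_testBit_eq fun j => ?_
      rw [Bool.eq_iff_iff, testBit_mimg, testBit_full, decide_eq_true_eq]
      constructor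
      · rintro ⟨i, hi, -, rfl⟩
        exact (hg i hi).2
      · intro hj
        refine ⟨idx (π.symm (pt j)), idx_lt _, by rw [testBit_full]; exact decide_eq_true (idx_lt _), ?_⟩
        obtain ⟨h1, h2⟩ := hg _ (idx_lt (π.symm (pt j)))
        rw [pt_idx, Equiv.apply_symm_apply] at h1
        exact (pt_inj hj h2 h1).symm
    rw [valid, e]
    exact Nat.beq_refl _
  have hπg : permOf g = π := perm_ext fun i hi => by rw [permOf_pt hv hi, (hg i hi).1]
  simp only [inM24, hv, Bool.true_and, List.all_eq_true]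
  intro x hx
  have hxc : mset x ∈ supports (golayCode : Set (GolayPt → ZMod 2)) := by
    have hb : ∀ y ∈ gens, y < 16777216 ∧ isCode y = true := by decide +kernel
    exact (mset_mem_supports_iff (hb x hx).1).2 (hb x hx).2
  rw [← mset_mem_supports_iff (mimg_lt hv x), ← smul_mset hv, hπg]
  exact mem_M24_iff.1 hπ _ hxc

/-- A permutation twisting `σ7` by an exponent is determined by three images. -/
theorem exists_cand {π : Equiv.Perm GolayPt} (hπ : π ∈ M24) {e : ℕ}
    (hc : π * σ7 = σ7 ^ e * π) (h0 : π (pt 0) = pt 0) (h18 : π (pt 18) = pt 18)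
    (h23 : π (pt 23) = pt 23) :
    ∃ a ∈ moved, ∃ b ∈ moved, ∃ c ∈ moved, inM24 (cand e [a, b, c]) = true ∧
      ∀ i < 24, π (pt i) = pt (imgOf e [a, b, c] i) := by
  have hpow : ∀ k, π * σ7 ^ k = σ7 ^ (e * k % 7) * π := by
    intro k
    have hk : π * σ7 ^ k = σ7 ^ (e * k) * π := by
      induction k with
      | zero => simp
      | succ k ih =>
        rw [pow_succ, ← mul_assoc, ih, mul_assoc, hc, ← mul_assoc, ← pow_add]
        ring_nf
    rw [hk, ← σ7_order, pow_mod_orderOf]
  have hbase : ∀ {b : ℕ}, b ∈ [1, 4, 5] → idx (π (pt b)) ∈ moved := by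
    intro b hb
    have hb24 : b < 24 := by
      simp only [List.mem_cons, List.not_mem_nil, or_false] at hb; omega
    have hm := List.all_eq_true.1 cycles_ok.2 _ (List.mem_range.2 (idx_lt (π (pt b))))
    simp only [Bool.or_eq_true, Bool.and_eq_true] at hm
    have hne : ∀ i < 24, π (pt i) = pt i → i ≠ b → Nat.beq (idx (π (pt b))) i = false := by
      intro i hi hfix hne
      cases hq : Nat.beq (idx (π (pt b))) i
      · rfl
      · refine absurd ?_ hne
        refine pt_inj hi hb24 (π.injective ?_)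
        rw [hfix, ← Nat.eq_of_beq_eq_true hq, pt_idx]
    simp only [List.mem_cons, List.not_mem_nil, or_false] at hb
    rcases hm with ((q | q) | q) | q
    · rw [hne 0 (by norm_num) h0 (by omega)] at q; exact Bool.noConfusion q
    · rw [hne 18 (by norm_num) h18 (by omega)] at q; exact Bool.noConfusion q
    · rw [hne 23 (by norm_num) h23 (by omega)] at q; exact Bool.noConfusion q
    · exact List.contains_iff_mem.1 q.2
  refine ⟨_, hbase (b := 1) (by decide), _, hbase (b := 4) (by decide), _, hbase (b := 5) (by decide), ?_⟩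
  set y := [idx (π (pt 1)), idx (π (pt 4)), idx (π (pt 5))] with hy
  have hyj : ∀ j < 3, y.getD j 0 < 24 ∧
      π (pt ([1, 4, 5].getD j 0)) = pt (y.getD j 0) := by
    intro j hj
    interval_cases j <;> exact ⟨idx_lt _, (pt_idx _).symm⟩
  have himg : ∀ i < 24, imgOf e y i < 24 ∧ π (pt i) = pt (imgOf e y i) := by
    intro i hi
    rw [imgOf]
    split_ifs with hf
    · simp only [Bool.or_eq_true] at hf
      rcases hf with (q | q) | q <;> rw [Nat.eq_of_beq_eq_true q]
      · exact ⟨by norm_num, h0⟩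
      · exact ⟨by norm_num, h18⟩
      · exact ⟨by norm_num, h23⟩
    · have hp : pos i / 7 < 3 ∧ iter code7 (pos i % 7) ([1, 4, 5].getD (pos i / 7) 0) = i := by
        revert hf; revert hi; revert i; decide +kernel
      obtain ⟨h1, h2⟩ := hyj _ hp.1
      obtain ⟨h3, h4⟩ := iter_spec valid7 (e * (pos i % 7) % 7) h1
      refine ⟨h3, ?_⟩
      have hb24 : [1, 4, 5].getD (pos i / 7) 0 < 24 := by
        have := hp.1; interval_cases (pos i / 7) <;> decide
      have h5 := (iter_spec valid7 (pos i % 7) hb24).2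
      rw [hp.2] at h5
      rw [← h4, ← h5, ← Equiv.Perm.mul_apply]
      show (π * σ7 ^ (pos i % 7)) _ = _
      rw [hpow, Equiv.Perm.mul_apply, h2]
      rfl
  refine ⟨inM24_of_perm hπ fun i hi => ?_, fun i hi => (himg i hi).2⟩
  have : img (cand e y) i = imgOf e y i := by
    rw [cand, img_encL (fun a ha => ?_) i (by simpa using hi),
      List.getD_eq_getElem _ _ (by simpa using hi), List.getElem_map, List.getElem_range]
    obtain ⟨k, hk, rfl⟩ := List.mem_map.1 ha
    exact lt_trans (himg k (List.mem_range.1 hk)).1 (by norm_num)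
  rw [this]
  exact (himg i hi).symm

/-- The centraliser of `σ7` fixing its fixed points. -/
theorem cent_fixing {π : Equiv.Perm GolayPt} (hπ : π ∈ M24) (hc : π * σ7 = σ7 * π)
    (h0 : π (pt 0) = pt 0) (h18 : π (pt 18) = pt 18) (h23 : π (pt 23) = pt 23) :
    ∃ k < 7, π = σ7 ^ k := by
  obtain ⟨a, ha, b, hb, c, hc', hin, himg⟩ := exists_cand hπ (e := 1) (by rw [pow_one, hc]) h0 h18 h23
  have h := List.all_eq_true.1 (List.all_eq_true.1 (List.all_eq_true.1 cent_cand_ok a ha) b hb) c hc'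
  rw [hin, Bool.not_true, Bool.false_or] at h
  obtain ⟨k, hk, hk'⟩ := List.any_eq_true.1 h
  refine ⟨k, List.mem_range.1 hk, perm_ext fun i hi => ?_⟩
  rw [himg i hi, Nat.eq_of_beq_eq_true (List.all_eq_true.1 hk' i (List.mem_range.2 hi)), σ7,
    (iter_spec valid7 k hi).2]

/-- Nothing fixing the fixed points inverts `σ7`. -/
theorem not_inverting {π : Equiv.Perm GolayPt} (hπ : π ∈ M24) (hc : π * σ7 = σ7⁻¹ * π)
    (h0 : π (pt 0) = pt 0) (h18 : π (pt 18) = pt 18) (h23 : π (pt 23) = pt 23) : False := by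
  have he : σ7⁻¹ = σ7 ^ 6 :=
    inv_eq_of_mul_eq_one_right (by rw [← pow_succ']; exact σ7_pow_seven)
  obtain ⟨a, ha, b, hb, c, hc', hin, -⟩ := exists_cand hπ (e := 6) (by rw [← he, hc]) h0 h18 h23
  have h := List.all_eq_true.1 (List.all_eq_true.1 (List.all_eq_true.1 inv_cand_ok a ha) b hb) c hc'
  rw [hin, Bool.not_true] at h
  exact Bool.noConfusion h

/-! ### The two further permutations -/

/-- The involution centralising `σ7`. -/
noncomputable def π2 : Equiv.Perm GolayPt := permOf code2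

/-- The element centralising `σ7` permuting the fixed points in a cycle. -/
noncomputable def π3 : Equiv.Perm GolayPt := permOf code3

theorem π2_mem : π2 ∈ M24 := inM24_mem code_mem.2.2.1

theorem π3_mem : π3 ∈ M24 := inM24_mem code_mem.2.2.2

theorem π2_facts : π2 * π2 = 1 ∧ π2 * σ7 = σ7 * π2 ∧ π2 (pt 0) = pt 0 ∧ π2 (pt 18) = pt 23 ∧
    π2 (pt 23) = pt 18 := by
  have hv := inM24_valid code_mem.2.2.1
  obtain ⟨-, -, -, -, a1, a2, a3, -⟩ := code_values
  refine ⟨perm_ext fun i hi => ?_, perm_ext fun i hi => ?_, ?_, ?_, ?_⟩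
  · rw [π2, ← pow_two, (iter_spec hv 2 hi).2, (code_row hi).2.2.1]
    rfl
  · rw [π2, σ7, Equiv.Perm.mul_apply, Equiv.Perm.mul_apply, permOf_pt valid7 hi,
      permOf_pt hv (valid_lt valid7 hi), permOf_pt hv hi, permOf_pt valid7 (valid_lt hv hi),
      (code_row hi).2.2.2.1]
  · rw [π2, permOf_pt hv (by norm_num), a1]
  · rw [π2, permOf_pt hv (by norm_num), a2]
  · rw [π2, permOf_pt hv (by norm_num), a3]

theorem π3_facts : π3 * σ7 = σ7 * π3 ∧ π3 (pt 0) = pt 18 ∧ π3 (pt 18) = pt 23 ∧
    π3 (pt 23) = pt 0 := by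
  have hv := inM24_valid code_mem.2.2.2
  obtain ⟨-, -, -, -, -, -, -, a1, a2, a3⟩ := code_values
  refine ⟨perm_ext fun i hi => ?_, ?_, ?_, ?_⟩
  · rw [π3, σ7, Equiv.Perm.mul_apply, Equiv.Perm.mul_apply, permOf_pt valid7 hi,
      permOf_pt hv (valid_lt valid7 hi), permOf_pt hv hi, permOf_pt valid7 (valid_lt hv hi),
      (code_row hi).2.2.2.2]
  · rw [π3, permOf_pt hv (by norm_num), a1]
  · rw [π3, permOf_pt hv (by norm_num), a2]
  · rw [π3, permOf_pt hv (by norm_num), a3]

/-- An element of `M24` centralising `σ7` and preserving the pair of `18` and `23`. -/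
theorem cent_pair {π : Equiv.Perm GolayPt} (hπ : π ∈ M24) (hc : π * σ7 = σ7 * π)
    (hp : π (pt 18) = pt 18 ∧ π (pt 23) = pt 23 ∨ π (pt 18) = pt 23 ∧ π (pt 23) = pt 18) :
    ∃ k < 7, π = σ7 ^ k ∨ π = π2 * σ7 ^ k := by
  have h0 : π (pt 0) = pt 0 := by
    have hfix : σ7 (π (pt 0)) = π (pt 0) := by
      rw [← Equiv.Perm.mul_apply, ← hc, Equiv.Perm.mul_apply, σ7_fixed.1]
    rcases fixed_cases hfix with e | e | e
    · exact e
    all_goals
      exfalso
      rcases hp with ⟨a, b⟩ | ⟨a, b⟩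
      · have := π.injective (e.trans (by first | exact a.symm | exact b.symm))
        exact absurd (pt_inj (by norm_num) (by norm_num) this) (by norm_num)
      · have := π.injective (e.trans (by first | exact a.symm | exact b.symm))
        exact absurd (pt_inj (by norm_num) (by norm_num) this) (by norm_num)
  obtain ⟨q1, q2, q3, q4, q5⟩ := π2_facts
  rcases hp with ⟨a, b⟩ | ⟨a, b⟩
  · obtain ⟨k, hk, e⟩ := cent_fixing hπ hc h0 a b
    exact ⟨k, hk, Or.inl e⟩
  · obtain ⟨k, hk, e⟩ := cent_fixing (π := π2 * π) (M24.mul_mem π2_mem hπ)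
      (by rw [mul_assoc, hc, ← mul_assoc, q2, mul_assoc])
      (by rw [Equiv.Perm.mul_apply, h0, q3]) (by rw [Equiv.Perm.mul_apply, a, q5])
      (by rw [Equiv.Perm.mul_apply, b, q4])
    exact ⟨k, hk, Or.inr (by rw [← e, ← mul_assoc, q1, one_mul])⟩

end CfsgLib.J4Type.Seven
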