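import Cfsg.Agent.Lib.J4Type.Seven.Setup
import Cfsg.Agent.Lib.J4Type.Seven.Perm
import Cfsg.Agent.Lib.J4Type.Five.Line
import Cfsg.Agent.Lib.J4Type.NV.Pairs276
import Cfsg.Agent.Lib.J4Type.CoreP.Norm
import Cfsg.Agent.Lib.J4Type.Three.Results

/-!
An element of order seven of the normaliser of `V` conjugate to a power of `s`, and the part of
its centraliser in that normaliser.
-/

set_option autoImplicit false
set_option linter.unusedSectionVars false
set_option maxRecDepth 100000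

namespace CfsgLib.J4Type.Seven

open Cfsg Subgroup CfsgLib.Golay

variable {G : Type*} [Group G] [Finite G] {z : G} {P : Subgroup G}

/-- The element of order seven seen in the normaliser of `V`. -/
structure Ctx (S : Setup z P) where
  /-- The pair model. -/
  model : NV.PairModel S.D.V (fun x => IsConj z x)
  model_co : ∀ v ∈ S.D.V, model.co v = Frame.coV S.D v
  model_surj : ∀ σ ∈ M24, ∃ n ∈ normalizer (S.D.V : Set G), model.perm n = σ
  /-- The element. -/
  a : G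
  a_norm : a ∈ normalizer (S.D.V : Set G)
  a_seven : a ^ 7 = 1
  a_perm : model.perm a = σ7
  /-- The conjugating element. -/
  e : G
  /-- The exponent. -/
  j : ℕ
  conj_a : e * S.s ^ j * e⁻¹ = a

theorem perm_pow {V : Subgroup G} {Z : G → Prop} (M : NV.PairModel V Z) {n : G}
    (hn : n ∈ normalizer (V : Set G)) (k : ℕ) : M.perm (n ^ k) = M.perm n ^ k := by
  induction k with
  | zero => rw [pow_zero, pow_zero, M.perm_one]
  | succ k ih => rw [pow_succ, pow_succ, M.perm_mul _ (pow_mem hn k) _ hn, ih]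

theorem exists_ctx (S : Setup z P) : Nonempty (Ctx S) := by
  obtain ⟨M, hM, hsurj⟩ := Frame.exists_pairModel_of_fused S.D S.fused
  have hv := inM24_valid code_mem.1
  obtain ⟨y, hy, hyp⟩ := hsurj (permOf code21) (inM24_mem code_mem.1)
  have h24 : permOf code21 ^ 24 = σ7 := perm_ext fun i hi => by
    rw [(iter_spec hv 24 hi).2, (code_row hi).1, σ7, permOf_pt valid7 hi]
  have h21 : permOf code21 ^ 21 = 1 := by
    have h : ∀ i < 24, iter code21 21 i = i := by decide +kernel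
    exact perm_ext fun i hi => by rw [(iter_spec hv 21 hi).2, h i hi]; rfl
  have hyV : y ^ 21 ∈ S.D.V :=
    (M.perm_eq_one _ (pow_mem hy 21)).1 (by rw [perm_pow M hy, hyp, h21])
  have hy42 : y ^ 42 = 1 := by
    rw [show 42 = 21 * 2 from rfl, pow_mul]; exact S.D.elem.2 _ hyV
  set a := y ^ 24 with ha
  set b := y ^ 28 with hb
  have hap : M.perm a = σ7 := by rw [ha, perm_pow M hy, hyp, h24]
  have ha7 : a ^ 7 = 1 := by rw [ha, ← pow_mul, show 24 * 7 = 42 * 4 from rfl, pow_mul, hy42, one_pow]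
  have ha1 : a ≠ 1 := fun e => σ7_ne (by rw [← hap, e, M.perm_one])
  have hb3 : b ^ 3 = 1 := by rw [hb, ← pow_mul, show 28 * 3 = 42 * 2 from rfl, pow_mul, hy42, one_pow]
  have hb1 : b ≠ 1 := by
    intro e
    have h := perm_pow M hy 28
    rw [← hb, e, M.perm_one, hyp] at h
    have e1 : (permOf code21 ^ 28) (pt 1) = pt 1 := by rw [← h]; rfl
    rw [(iter_spec hv 28 (by norm_num)).2] at e1
    have := code_powers.2.1
    rw [pt_inj (iter_spec hv 28 (by norm_num)).1 (by norm_num) e1, Nat.beq_refl] at this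
    exact Bool.noConfusion this
  haveI : Fact (Nat.Prime 3) := ⟨Nat.prime_three⟩
  haveI : Fact (Nat.Prime 7) := ⟨by norm_num⟩
  have L := Frame.local_of_fused S.D S.fused
  obtain ⟨k, hk⟩ := isConj_iff.1
    (Three.order_three_conj S.F L b S.F.p0 (orderOf_eq_prime hb3 hb1) S.p_order)
  obtain ⟨B⟩ := CoreP.exists_base S.F
  have hcen : k * a * k⁻¹ ∈ Cen z := by
    refine B.cent_le_cen S.F L (S.F.mem_centP_iff.2 ?_)
    have hab : a * b = b * a := by rw [ha, hb, ← pow_add, ← pow_add, Nat.add_comm]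
    rw [← hk]
    calc k * a * k⁻¹ * (k * b * k⁻¹) = k * (a * b) * k⁻¹ := by group
      _ = k * (b * a) * k⁻¹ := by rw [hab]
      _ = _ := by group
  obtain ⟨c, -, j, hc⟩ := S.exists_conj_s hcen
    (by rw [Invol.orderOf_conj_eq]; exact orderOf_eq_prime ha7 ha1)
  refine ⟨⟨M, hM, hsurj, a, pow_mem hy _, ha7, hap, k⁻¹ * c, j, ?_⟩⟩
  calc k⁻¹ * c * S.s ^ j * (k⁻¹ * c)⁻¹ = k⁻¹ * (c * S.s ^ j * c⁻¹) * k := by group
    _ = a := by rw [hc]; group

namespace Ctx

variable {S : Setup z P} (A : Ctx S)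

theorem a_ne : A.a ≠ 1 := fun e => σ7_ne (by rw [← A.a_perm, e, A.model.perm_one])

theorem a_order : orderOf A.a = 7 := by
  haveI : Fact (Nat.Prime 7) := ⟨by norm_num⟩
  exact orderOf_eq_prime A.a_seven A.a_ne

/-- The centraliser of `a`. -/
def X : Subgroup G := centralizer ({A.a} : Set G)

theorem mem_X {g : G} : g ∈ A.X ↔ g * A.a = A.a * g := mem_centralizer_singleton_iff

theorem a_mem_X : A.a ∈ A.X := A.mem_X.2 rfl

/-- Conjugation moving a power of `s` to `a` moves the centralisers. -/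
theorem conj_cent {g : G} {j : ℕ} (h : g * S.s ^ j * g⁻¹ = A.a) (x : G) :
    x * S.s = S.s * x ↔ g * x * g⁻¹ ∈ A.X := by
  have hj : S.s ^ j ≠ 1 := fun e => A.a_ne (by rw [← h, e, mul_one, mul_inv_cancel])
  rw [← S.cent_pow hj, A.mem_X]
  constructor
  · intro hx
    calc g * x * g⁻¹ * A.a = g * x * g⁻¹ * (g * S.s ^ j * g⁻¹) := by rw [h]
      _ = g * (x * S.s ^ j) * g⁻¹ := by group
      _ = g * (S.s ^ j * x) * g⁻¹ := by rw [hx]
      _ = g * S.s ^ j * g⁻¹ * (g * x * g⁻¹) := by group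
      _ = _ := by rw [h]
  · intro hx
    rw [← h] at hx
    calc x * S.s ^ j = g⁻¹ * (g * x * g⁻¹ * (g * S.s ^ j * g⁻¹)) * g := by group
      _ = g⁻¹ * (g * S.s ^ j * g⁻¹ * (g * x * g⁻¹)) * g := by rw [hx]
      _ = _ := by group

/-- A conjugate of the central involution commuting with `a` is reached compatibly. -/
theorem exists_mover {u : G} (hu : u ∈ A.X) (h : IsConj z u) :
    ∃ g : G, g * z * g⁻¹ = u ∧ ∀ x, x * S.s = S.s * x ↔ g * x * g⁻¹ ∈ A.X := by
  obtain ⟨g, hg⟩ := isConj_iff.1 h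
  have hy : g⁻¹ * A.a * g ∈ Cen z := mem_centralizer_singleton_iff.2 (by
    calc g⁻¹ * A.a * g * z = g⁻¹ * (A.a * (g * z * g⁻¹)) * g := by group
      _ = g⁻¹ * (g * z * g⁻¹ * A.a) * g := by rw [hg, A.mem_X.1 hu]
      _ = z * (g⁻¹ * A.a * g) := by group)
  obtain ⟨c, hc, j, e⟩ := S.exists_conj_s hy (by
    rw [show g⁻¹ * A.a * g = g⁻¹ * A.a * (g⁻¹)⁻¹ by group, Invol.orderOf_conj_eq, A.a_order])
  refine ⟨g * c, ?_, A.conj_cent (j := j) ?_⟩
  · calc g * c * z * (g * c)⁻¹ = g * (c * z) * c⁻¹ * g⁻¹ := by group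
      _ = g * z * g⁻¹ := by rw [mem_centralizer_singleton_iff.1 hc]; group
      _ = u := hg
  · calc g * c * S.s ^ j * (g * c)⁻¹ = g * (c * S.s ^ j * c⁻¹) * g⁻¹ := by group
      _ = A.a := by rw [e]; group

theorem exists_ztype : ∃ u ∈ A.X, IsConj z u :=
  ⟨A.e * z * A.e⁻¹, (A.conj_cent A.conj_a z).1 (S.mem_CX.1 S.z_mem_CX).2,
    isConj_iff.2 ⟨A.e, rfl⟩⟩

/-! ### The fixed elements of `V` -/

/-- The pair of points of `V`. -/
noncomputable def pairE {S : Setup z P} (_ : Ctx S) (i k : ℕ) : G := Frame.vE S.D (NV.pv (pt i) (pt k))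

include A in
theorem pairE_mem (i k : ℕ) : A.pairE i k ∈ S.D.V := Frame.vE_mem S.D (NV.pv_lt _ _)

theorem conj_pairE {n : G} (hn : n ∈ normalizer (S.D.V : Set G)) (p q : GolayPt) :
    n * Frame.vE S.D (NV.pv p q) * n⁻¹ =
      Frame.vE S.D (NV.pv (A.model.perm n p) (A.model.perm n q)) := by
  have hv := Frame.vE_mem S.D (NV.pv_lt p q)
  have hv' := (mem_normalizer_iff.1 hn _).1 hv
  have h := A.model.co_conj n hn _ hv p q
    (by rw [A.model_co _ hv, Frame.coV_vE S.D (NV.pv_lt p q)])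
  rw [A.model_co _ hv'] at h
  rw [← (Frame.coV_spec S.D hv').2, h]

include A in
theorem pairE_pairV {i k : ℕ} (hi : i < 24) (hk : k < 24) (h : i ≠ k) :
    A.pairE i k ∈ Frame.pairV S.D :=
  Frame.pairV_of_inB S.D S.fused (NV.pv_lt _ _) (NV.pv_inB fun e => h (pt_inj hi hk e))

/-- The elements of `V` centralising `a`. -/
noncomputable def W : Subgroup G := S.D.V ⊓ A.X

theorem act_a {v : G} (hv : v ∈ S.D.V) :
    Frame.coV S.D (A.a * v * A.a⁻¹) = mv lin7 (Frame.coV S.D v) := by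
  have hc : ∀ {w : G}, w ∈ S.D.V → A.a * w * A.a⁻¹ ∈ S.D.V := fun hw =>
    (mem_normalizer_iff.1 A.a_norm _).1 hw
  let f : ℕ → ℕ := fun n => Frame.coV S.D (A.a * Frame.vE S.D n * A.a⁻¹)
  have hf : ∀ p q, p < 2 ^ 11 → q < 2 ^ 11 → f (p ^^^ q) = f p ^^^ f q := by
    intro p q hp hq
    show Frame.coV S.D _ = _
    rw [← Frame.coV_mul S.D (hc (Frame.vE_mem S.D hp)) (hc (Frame.vE_mem S.D hq)),
      show Frame.vE S.D (p ^^^ q) = Frame.vE S.D p * Frame.vE S.D q from
        Frame.vE_xor S.D hp hq]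
    congr 1
    group
  have hwv : ∀ i < 24, f (NV.wv i) = NV.wv (img code7 i) := by
    intro i hi
    have e : ∀ k < 24, NV.pv (pt 0) (pt k) = NV.wv k := fun k hk => by
      rw [NV.pv, idx_pt (by norm_num), idx_pt hk, wv_facts.1, Nat.zero_xor]
    show Frame.coV S.D _ = _
    rw [← e i hi, A.conj_pairE A.a_norm, A.a_perm, σ7_fixed.1, σ7, permOf_pt valid7 hi,
      Frame.coV_vE S.D (NV.pv_lt _ _), e _ (valid_lt valid7 hi)]
  have hs : ∀ l : List ℕ, (∀ i ∈ l, i < 24) →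
      NV.wSum l < 2048 ∧ f (NV.wSum l) = NV.wSum (l.map (img code7)) := by
    intro l
    induction l with
    | nil =>
      intro _
      have h0 := hf 0 0 (by norm_num) (by norm_num)
      rw [Nat.xor_self, Nat.xor_self] at h0
      exact ⟨by norm_num [NV.wSum], h0⟩
    | cons i l ih =>
      intro hl
      obtain ⟨h1, h2⟩ := ih fun k hk => hl k (List.mem_cons_of_mem _ hk)
      have hi : i < 24 := hl i List.mem_cons_self
      have hi' : NV.wv i < 2048 := (NV.tab_facts hi hi).2.1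
      refine ⟨Nat.xor_lt_two_pow (n := 11) hi' h1, ?_⟩
      show f (NV.wv i ^^^ NV.wSum l) = _
      rw [hf _ _ hi' h1, hwv i hi, h2]
      rfl
  obtain ⟨h1, h2⟩ := Frame.coV_spec S.D hv
  have key := lin_ext (f := f) (g := mv lin7) (n := 11) hf
    (fun p q _ _ => mv_xor lin7 p q) ?_ _ h1
  · rw [← key]
    show _ = Frame.coV S.D _
    rw [h2]
  · intro k hk
    have hck := List.all_eq_true.1 NV.spanTab_check k (List.mem_range.2 hk)
    simp only [Bool.and_eq_true, List.all_eq_true, decide_eq_true_eq] at hck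
    rw [mv_two_pow _ _ (by rw [lin7, List.length_map, List.length_range]; exact hk),
      ← Nat.eq_of_beq_eq_true hck.1, (hs _ hck.2).2, lin7,
      List.getD_eq_getElem ((List.range 11).map _) 0
        (by rw [List.length_map, List.length_range]; exact hk),
      List.getElem_map, List.getElem_range]

theorem mem_W_cases {v : G} (hv : v ∈ A.W) :
    v = 1 ∨ v = A.pairE 0 18 ∨ v = A.pairE 0 23 ∨ v = A.pairE 18 23 := by
  obtain ⟨hV, hX⟩ := hv
  obtain ⟨h1, h2⟩ := Frame.coV_spec S.D hV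
  have h := A.act_a hV
  rw [← A.mem_X.1 hX, mul_inv_cancel_right] at h
  have hc := List.all_eq_true.1 lin7_ok.2 _ (List.mem_range.2 h1)
  rw [← h, Nat.beq_refl, Bool.not_true, Bool.false_or] at hc
  simp only [Bool.or_eq_true] at hc
  have e : ∀ i k, i < 24 → k < 24 → NV.pv (pt i) (pt k) = NV.wv i ^^^ NV.wv k := fun i k hi hk => by
    rw [NV.pv, idx_pt hi, idx_pt hk]
  rw [← h2]
  rcases hc with ((q | q) | q) | q <;> rw [Nat.eq_of_beq_eq_true q]
  · exact Or.inl (by rw [Frame.vE_zero])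
  · exact Or.inr (Or.inl (by rw [pairE, e 0 18 (by norm_num) (by norm_num), wv_facts.1, Nat.zero_xor]))
  · exact Or.inr (Or.inr (Or.inl (by
      rw [pairE, e 0 23 (by norm_num) (by norm_num), wv_facts.1, Nat.zero_xor])))
  · exact Or.inr (Or.inr (Or.inr (by rw [pairE, e 18 23 (by norm_num) (by norm_num)])))

theorem pairE_W {i k : ℕ} (hi : i ∈ [0, 18, 23]) (hk : k ∈ [0, 18, 23]) : A.pairE i k ∈ A.W := by
  refine ⟨A.pairE_mem i k, A.mem_X.2 ?_⟩
  have e := A.conj_pairE A.a_norm (pt i) (pt k)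
  rw [A.a_perm] at e
  obtain ⟨f0, f18, f23⟩ := σ7_fixed
  simp only [List.mem_cons, List.not_mem_nil, or_false] at hi hk
  have fi : σ7 (pt i) = pt i := by rcases hi with rfl | rfl | rfl <;> assumption
  have fk : σ7 (pt k) = pt k := by rcases hk with rfl | rfl | rfl <;> assumption
  rw [fi, fk] at e
  exact (mul_inv_eq_iff_eq_mul.1 e).symm

theorem pairE_comm (i k : ℕ) : A.pairE i k = A.pairE k i := by rw [pairE, NV.pv_comm]; rfl

theorem pairE_ne {i k l : ℕ} (hk : k < 24) (hl : l < 24) (h : k ≠ l) :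
    A.pairE i k ≠ A.pairE i l := fun e =>
  h (pt_inj hk hl (NV.pv_left_cancel (Frame.vE_injOn S.D (NV.pv_lt _ _) (NV.pv_lt _ _) e)))

theorem W_mul : A.pairE 0 18 * A.pairE 0 23 = A.pairE 18 23 := by
  rw [pairE, pairE, ← Frame.vE_xor S.D (NV.pv_lt _ _) (NV.pv_lt _ _), NV.pv_xor]
  rfl

theorem W_distinct : A.pairE 0 18 ≠ A.pairE 0 23 ∧ A.pairE 0 18 ≠ A.pairE 18 23 ∧
    A.pairE 0 23 ≠ A.pairE 18 23 ∧ A.pairE 0 18 ≠ 1 ∧ A.pairE 0 23 ≠ 1 ∧ A.pairE 18 23 ≠ 1 := by
  refine ⟨A.pairE_ne (by norm_num) (by norm_num) (by norm_num), ?_, ?_,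
    (A.pairE_pairV (by norm_num) (by norm_num) (by norm_num)).2.1,
    (A.pairE_pairV (by norm_num) (by norm_num) (by norm_num)).2.1,
    (A.pairE_pairV (by norm_num) (by norm_num) (by norm_num)).2.1⟩
  · rw [A.pairE_comm 0 18]
    exact A.pairE_ne (by norm_num) (by norm_num) (by norm_num)
  · rw [A.pairE_comm 0 23, A.pairE_comm 18 23]
    exact A.pairE_ne (by norm_num) (by norm_num) (by norm_num)

theorem W_set : (A.W : Set G) = {1, A.pairE 0 18, A.pairE 0 23, A.pairE 18 23} := by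
  ext v
  simp only [SetLike.mem_coe, Set.mem_insert_iff, Set.mem_singleton_iff]
  refine ⟨A.mem_W_cases, ?_⟩
  rintro (rfl | rfl | rfl | rfl)
  · exact one_mem _
  all_goals exact A.pairE_W (by decide) (by decide)

theorem card_W : Nat.card A.W = 4 := by
  obtain ⟨h1, h2, h3, h4, h5, h6⟩ := A.W_distinct
  rw [← SetLike.coe_sort_coe, Nat.card_coe_set_eq, A.W_set,
    Set.ncard_insert_of_notMem (by simp [h4.symm, h5.symm, h6.symm]) (Set.toFinite _),
    Set.ncard_insert_of_notMem (by simp [h1, h2]) (Set.toFinite _), Set.ncard_pair h3]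

theorem W_pairV {w : G} (hw : w ∈ A.W) (h1 : w ≠ 1) : w ∈ Frame.pairV S.D := by
  rcases A.mem_W_cases hw with rfl | rfl | rfl | rfl
  · exact absurd rfl h1
  all_goals exact A.pairE_pairV (by norm_num) (by norm_num) (by norm_num)

/-! ### The centraliser inside the normaliser of `V` -/

/-- The part of the centraliser normalising `V`. -/
def M : Subgroup G := normalizer (S.D.V : Set G) ⊓ A.X

theorem perm_comm {m : G} (hm : m ∈ A.M) : A.model.perm m * σ7 = σ7 * A.model.perm m := by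
  rw [← A.a_perm, ← A.model.perm_mul _ hm.1 _ A.a_norm, A.mem_X.1 hm.2,
    A.model.perm_mul _ A.a_norm _ hm.1]

theorem perm_fixed {m : G} (hm : m ∈ A.M) {p : GolayPt} (hp : σ7 p = p) :
    σ7 (A.model.perm m p) = A.model.perm m p := by
  rw [← Equiv.Perm.mul_apply, ← A.perm_comm hm, Equiv.Perm.mul_apply, hp]

theorem M_W {m w : G} (hm : m ∈ A.M) (hw : w ∈ A.W) : m * w * m⁻¹ ∈ A.W :=
  ⟨(mem_normalizer_iff.1 hm.1 _).1 hw.1, A.X.mul_mem (A.X.mul_mem hm.2 hw.2) (A.X.inv_mem hm.2)⟩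

theorem cent_W_le {w : G} (hw : w ∈ A.W) (h1 : w ≠ 1) :
    A.X ⊓ centralizer ({w} : Set G) ≤ A.M := fun _ h =>
  ⟨Frame.centralizer_pairV_le S.D S.fused (A.W_pairV hw h1) h.2, h.1⟩

include A in
theorem V_le_norm {v : G} (hv : v ∈ S.D.V) : v ∈ normalizer (S.D.V : Set G) :=
  le_normalizer hv

theorem W_le_M : A.W ≤ A.M := fun _ h => ⟨A.V_le_norm h.1, h.2⟩

/-- The subgroup of the normaliser of `V` over a group of permutations. -/
def pre (Q : Subgroup (Equiv.Perm GolayPt)) : Subgroup G where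
  carrier := {n | n ∈ normalizer (S.D.V : Set G) ∧ A.model.perm n ∈ Q}
  one_mem' := ⟨one_mem _, by rw [A.model.perm_one]; exact one_mem _⟩
  mul_mem' := fun {x y} hx hy => ⟨mul_mem hx.1 hy.1, by
    rw [A.model.perm_mul _ hx.1 _ hy.1]; exact Q.mul_mem hx.2 hy.2⟩
  inv_mem' := fun {x} hx => ⟨inv_mem hx.1, by
    have h : A.model.perm x⁻¹ * A.model.perm x = 1 := by
      rw [← A.model.perm_mul _ (inv_mem hx.1) _ hx.1, inv_mul_cancel, A.model.perm_one]
    rw [eq_inv_of_mul_eq_one_left h]; exact Q.inv_mem hx.2⟩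

theorem exists_lift {π : Equiv.Perm GolayPt} (hπ : π ∈ M24) (hc : π * σ7 = σ7 * π) :
    ∃ m ∈ A.M, A.model.perm m = π := by
  haveI : Fact (Nat.Prime 7) := ⟨by norm_num⟩
  obtain ⟨n, hn, hnp⟩ := A.model_surj π hπ
  set K := S.D.V ⊔ zpowers A.a with hK
  have hKpre : K ≤ A.pre (zpowers σ7) := sup_le
    (fun v hv => ⟨A.V_le_norm hv, by
      rw [(A.model.perm_eq_one v (A.V_le_norm hv)).2 hv]; exact one_mem _⟩)
    (zpowers_le.2 ⟨A.a_norm, by rw [A.a_perm]; exact mem_zpowers _⟩)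
  have hb : n * A.a * n⁻¹ ∈ K := by
    have hbn : n * A.a * n⁻¹ ∈ normalizer (S.D.V : Set G) :=
      mul_mem (mul_mem hn A.a_norm) (inv_mem hn)
    have hbv : n * A.a * n⁻¹ * A.a⁻¹ ∈ S.D.V := by
      refine (A.model.perm_eq_one _ (mul_mem hbn (inv_mem A.a_norm))).1 ?_
      have e1 : A.model.perm (n * A.a * n⁻¹ * A.a⁻¹) * A.model.perm (A.a * n) =
          A.model.perm (n * A.a) := by
        rw [← A.model.perm_mul _ (mul_mem hbn (inv_mem A.a_norm)) _ (mul_mem A.a_norm hn)]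
        congr 1
        group
      rw [A.model.perm_mul _ A.a_norm _ hn, A.model.perm_mul _ hn _ A.a_norm, A.a_perm, hnp, hc] at e1
      exact mul_eq_right.1 e1
    have : n * A.a * n⁻¹ = n * A.a * n⁻¹ * A.a⁻¹ * A.a := by group
    rw [this]
    exact K.mul_mem (mem_sup_left hbv) (mem_sup_right (mem_zpowers _))
  have hle : zpowers A.a ≤ normalizer (S.D.V : Set G) := zpowers_le.2 A.a_norm
  have hcard : (Nat.card K).factorization 7 = 1 := by
    have h := CoreP.card_sup_inf hle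
    rw [Subgroup.inf_eq_bot_of_coprime (H := S.D.V) (K := zpowers A.a) (by
      rw [S.D.card, Nat.card_zpowers, A.a_order]; norm_num), Subgroup.card_bot, mul_one,
      S.D.card, Nat.card_zpowers, A.a_order] at h
    rw [hK, h, show 7 * 2 ^ 11 = 2 ^ 11 * 7 ^ 1 by norm_num,
      Nat.factorization_mul (by norm_num) (by norm_num), Finsupp.add_apply,
      Nat.Prime.factorization_pow (by norm_num : Nat.Prime 7), Finsupp.single_eq_same,
      Nat.factorization_eq_zero_of_not_dvd (by norm_num)]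
  let xa : K := ⟨A.a, mem_sup_right (mem_zpowers _)⟩
  let xb : K := ⟨n * A.a * n⁻¹, hb⟩
  let Sa := Sylow.ofCard (zpowers xa) (by
    rw [Nat.card_zpowers, Subgroup.orderOf_mk, A.a_order, hcard, pow_one])
  let Sb := Sylow.ofCard (zpowers xb) (by
    rw [Nat.card_zpowers, Subgroup.orderOf_mk, Invol.orderOf_conj_eq, A.a_order, hcard, pow_one])
  obtain ⟨c, hc'⟩ := MulAction.exists_smul_eq K Sb Sa
  have hmem : c * xb * c⁻¹ ∈ (Sa : Subgroup K) := by
    rw [← hc', Sylow.coe_subgroup_smul]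
    exact ⟨xb, mem_zpowers xb, rfl⟩
  obtain ⟨k, hk⟩ := mem_zpowers_iff.1 (show c * xb * c⁻¹ ∈ zpowers xa from hmem)
  obtain ⟨i, hi⟩ := mem_zpowers_iff.1 (hKpre c.2).2
  have hai : A.a ^ i ∈ normalizer (S.D.V : Set G) := zpow_mem A.a_norm i
  have hpai : A.model.perm (A.a ^ i) = σ7 ^ i := by
    obtain ⟨t, rfl | rfl⟩ := Int.eq_nat_or_neg i
    · rw [zpow_natCast, zpow_natCast, perm_pow A.model A.a_norm, A.a_perm]
    · have h : A.model.perm (A.a ^ (-(t : ℤ))) * A.model.perm (A.a ^ t) = 1 := by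
        rw [← A.model.perm_mul _ hai _ (pow_mem A.a_norm t), ← zpow_natCast, ← zpow_add,
          neg_add_cancel, zpow_zero, A.model.perm_one]
      rw [eq_inv_of_mul_eq_one_left h, perm_pow A.model A.a_norm, A.a_perm, zpow_neg, zpow_natCast]
  set m := (A.a ^ i)⁻¹ * (c : G) * n with hm
  have hcN : (c : G) ∈ normalizer (S.D.V : Set G) := (hKpre c.2).1
  have hmN : m ∈ normalizer (S.D.V : Set G) := mul_mem (mul_mem (inv_mem hai) hcN) hn
  have hmp : A.model.perm m = π := by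
    have h1 : A.model.perm (A.a ^ i * m) = A.model.perm ((c : G) * n) := by
      congr 1
      rw [hm]
      group
    rw [A.model.perm_mul _ hai _ hmN, A.model.perm_mul _ hcN _ hn, hpai, ← hi, hnp] at h1
    exact mul_left_cancel h1
  have hconj : m * A.a * m⁻¹ = A.a ^ k := by
    have e : (c : G) * (n * A.a * n⁻¹) * (c : G)⁻¹ = A.a ^ k := (congrArg Subtype.val hk).symm
    calc m * A.a * m⁻¹
        = (A.a ^ i)⁻¹ * ((c : G) * (n * A.a * n⁻¹) * (c : G)⁻¹) * A.a ^ i := by rw [hm]; group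
      _ = A.a ^ k := by rw [e]; group
  obtain ⟨t, ht⟩ := (isOfFinOrder_of_finite A.a).mem_powers_iff_mem_zpowers.2
    (hconj ▸ mem_zpowers_iff.2 ⟨k, rfl⟩)
  change A.a ^ t = m * A.a * m⁻¹ at ht
  have htp : σ7 ^ t = σ7 ^ 1 := by
    have h1 : A.model.perm (A.a ^ t * m) = A.model.perm (m * A.a) := by
      congr 1
      rw [ht]
      group
    rw [A.model.perm_mul _ (pow_mem A.a_norm t) _ hmN, A.model.perm_mul _ hmN _ A.a_norm,
      perm_pow A.model A.a_norm, A.a_perm, hmp, hc] at h1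
    rw [pow_one]
    exact mul_right_cancel h1
  rw [pow_eq_pow_iff_modEq, σ7_order] at htp
  have : A.a ^ t = A.a := by
    conv_rhs => rw [← pow_one A.a]
    rw [pow_eq_pow_iff_modEq, A.a_order]
    exact htp
  rw [this] at ht
  exact ⟨m, ⟨hmN, A.mem_X.2 (mul_inv_eq_iff_eq_mul.1 ht.symm)⟩, hmp⟩

/-- The centraliser of the last fixed element. -/
def C3 : Subgroup G := A.X ⊓ centralizer ({A.pairE 18 23} : Set G)

theorem mem_C3 {g : G} :
    g ∈ A.C3 ↔ g ∈ A.X ∧ g * A.pairE 18 23 = A.pairE 18 23 * g := by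
  rw [C3, mem_inf]
  exact and_congr_right fun _ => mem_centralizer_singleton_iff

theorem C3_le : A.C3 ≤ A.M := A.cent_W_le (A.pairE_W (by decide) (by decide)) A.W_distinct.2.2.2.2.2

theorem W_le_C3 : A.W ≤ A.C3 := fun w hw => A.mem_C3.2
  ⟨hw.2, Frame.V_comm S.D hw.1 (A.pairE_mem _ _)⟩

theorem perm_C3 {g : G} (hg : g ∈ A.C3) :
    ∃ k < 7, A.model.perm g = σ7 ^ k ∨ A.model.perm g = π2 * σ7 ^ k := by
  have hm := A.C3_le hg
  refine cent_pair (A.model.perm_mem g hm.1) (A.perm_comm hm) ?_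
  obtain ⟨f0, f18, f23⟩ := σ7_fixed
  have e := A.conj_pairE hm.1 (pt 18) (pt 23)
  rw [show g * Frame.vE S.D (NV.pv (pt 18) (pt 23)) * g⁻¹ = Frame.vE S.D (NV.pv (pt 18) (pt 23)) from
    mul_inv_eq_iff_eq_mul.2 (A.mem_C3.1 hg).2] at e
  have e' := Frame.vE_injOn S.D (NV.pv_lt _ _) (NV.pv_lt _ _) e
  have hne : A.model.perm g (pt 18) ≠ A.model.perm g (pt 23) := fun h =>
    absurd (pt_inj (by norm_num) (by norm_num) ((A.model.perm g).injective h)) (by norm_num)
  have hd : NV.pv (pt 18) (pt 23) ≠ NV.pv (pt 0) (pt 18) ∧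
      NV.pv (pt 18) (pt 23) ≠ NV.pv (pt 0) (pt 23) ∧
      NV.pv (pt 18) (pt 23) ≠ NV.pv (pt 18) (pt 0) ∧
      NV.pv (pt 18) (pt 23) ≠ NV.pv (pt 23) (pt 0) := by decide +kernel
  rcases fixed_cases (A.perm_fixed hm f18) with a | a | a <;>
    rcases fixed_cases (A.perm_fixed hm f23) with b | b | b <;> rw [a, b] at e' hne
  all_goals first
    | exact absurd rfl hne
    | exact Or.inl ⟨a, b⟩
    | exact Or.inr ⟨a, b⟩
    | exact absurd e' hd.1
    | exact absurd e' hd.2.1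
    | exact absurd e' hd.2.2.1
    | exact absurd e' hd.2.2.2

theorem exists_m2 : ∃ m ∈ A.C3, A.model.perm m = π2 := by
  obtain ⟨-, q2, -, q4, q5⟩ := π2_facts
  obtain ⟨m, hm, hmp⟩ := A.exists_lift π2_mem q2
  refine ⟨m, A.mem_C3.2 ⟨hm.2, mul_inv_eq_iff_eq_mul.1 ?_⟩, hmp⟩
  rw [pairE, A.conj_pairE hm.1, hmp, q4, q5, NV.pv_comm]

/-- The permutation map. -/
noncomputable def permHom (H : Subgroup G) (h : H ≤ A.M) : ↥H →* Equiv.Perm GolayPt where
  toFun x := A.model.perm x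
  map_one' := A.model.perm_one
  map_mul' x y := A.model.perm_mul _ (h x.2).1 _ (h y.2).1

theorem card_permHom_ker {H : Subgroup G} (h : H ≤ A.M) (hW : A.W ≤ H) :
    Nat.card (A.permHom H h).ker = 4 := by
  have e : (A.permHom H h).ker = A.W.subgroupOf H := by
    ext x
    rw [MonoidHom.mem_ker, mem_subgroupOf]
    show A.model.perm x = 1 ↔ _
    rw [A.model.perm_eq_one _ (h x.2).1]
    exact ⟨fun hx => ⟨hx, (h x.2).2⟩, fun hx => hx.1⟩
  rw [e, Nat.card_congr (subgroupOfEquivOfLe hW).toEquiv, A.card_W]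

theorem π2_ne_pow (k : ℕ) : π2 ≠ σ7 ^ k := by
  intro e
  have h18 : ∀ n : ℕ, (σ7 ^ n) (pt 18) = pt 18 := by
    intro n
    induction n with
    | zero => rfl
    | succ n ih => rw [pow_succ, Equiv.Perm.mul_apply, σ7_fixed.2.1, ih]
  have h := h18 k
  rw [← e, π2_facts.2.2.2.1] at h
  exact absurd (pt_inj (by norm_num) (by norm_num) h) (by norm_num)

theorem card_C3 : Nat.card A.C3 = 56 := by
  classical
  set φ := A.permHom A.C3 A.C3_le
  have hσ : σ7 ∈ φ.range := ⟨⟨A.a, A.mem_C3.2 ⟨A.a_mem_X,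
    (A.mem_X.1 (A.pairE_W (i := 18) (k := 23) (by decide) (by decide)).2).symm⟩⟩, A.a_perm⟩
  obtain ⟨m, hm, hmp⟩ := A.exists_m2
  have hπ : π2 ∈ φ.range := ⟨⟨m, hm⟩, hmp⟩
  let f : Fin 7 × Bool → φ.range := fun x => ⟨(if x.2 then π2 else 1) * σ7 ^ (x.1 : ℕ), by
    refine φ.range.mul_mem ?_ (pow_mem hσ _)
    cases x.2
    · exact one_mem _
    · exact hπ⟩
  have hf : Function.Bijective f := by
    constructor
    · rintro ⟨i, b⟩ ⟨i', b'⟩ e
      have e' : (if b then π2 else 1) * σ7 ^ (i : ℕ) = (if b' then π2 else 1) * σ7 ^ (i' : ℕ) :=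
        congrArg Subtype.val e
      have hb : b = b' := by
        cases b <;> cases b'
        · rfl
        · exfalso
          simp only [Bool.false_eq_true, if_false, if_true, one_mul] at e'
          refine π2_ne_pow ((i : ℕ) + (7 - (i' : ℕ))) ?_
          rw [pow_add, e', mul_assoc, ← pow_add, Nat.add_sub_cancel' i'.2.le, σ7_pow_seven, mul_one]
        · exfalso
          simp only [Bool.false_eq_true, if_false, if_true, one_mul] at e'
          refine π2_ne_pow ((i' : ℕ) + (7 - (i : ℕ))) ?_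
          rw [pow_add, ← e', mul_assoc, ← pow_add, Nat.add_sub_cancel' i.2.le, σ7_pow_seven, mul_one]
        · rfl
      subst hb
      have := pow_eq_pow_iff_modEq.1 (mul_left_cancel e')
      rw [σ7_order] at this
      exact Prod.ext (Fin.ext (by
        rwa [Nat.ModEq, Nat.mod_eq_of_lt i.2, Nat.mod_eq_of_lt i'.2] at this)) rfl
    · rintro ⟨_, ⟨x, hx⟩, rfl⟩
      obtain ⟨k, hk, e | e⟩ := A.perm_C3 hx
      · exact ⟨(⟨k, hk⟩, false), Subtype.ext (by simpa [f, φ, permHom] using e.symm)⟩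
      · exact ⟨(⟨k, hk⟩, true), Subtype.ext (by simpa [f, φ, permHom] using e.symm)⟩
  rw [← card_mul_index φ.ker, index_ker, A.card_permHom_ker A.C3_le A.W_le_C3,
    ← Nat.card_congr (Equiv.ofBijective f hf), Nat.card_prod, Nat.card_fin,
    Nat.card_eq_fintype_card (α := Bool), Fintype.card_bool]

theorem exists_cycle : ∃ m ∈ A.M, m * A.pairE 18 23 * m⁻¹ = A.pairE 0 23 ∧
    m * A.pairE 0 23 * m⁻¹ = A.pairE 0 18 := by
  obtain ⟨q1, q2, q3, q4⟩ := π3_facts
  obtain ⟨m, hm, hmp⟩ := A.exists_lift π3_mem q1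
  refine ⟨m, hm, ?_, ?_⟩
  · rw [pairE, A.conj_pairE hm.1, hmp, q3, q4, NV.pv_comm]; rfl
  · rw [pairE, A.conj_pairE hm.1, hmp, q2, q4, NV.pv_comm]; rfl

theorem card_M : Nat.card A.M = 168 := by
  obtain ⟨m, hm, e1, e2⟩ := A.exists_cycle
  have horb : {v : G | ∃ h ∈ A.M, h * A.pairE 18 23 * h⁻¹ = v} = (A.W : Set G) \ {1} := by
    ext v
    constructor
    · rintro ⟨h, hh, rfl⟩
      exact ⟨A.M_W hh (A.pairE_W (by decide) (by decide)), fun e =>
        A.W_distinct.2.2.2.2.2 (conj_eq_one_iff.1 e)⟩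
    · rintro ⟨hv, h1⟩
      rcases A.mem_W_cases hv with rfl | rfl | rfl | rfl
      · exact absurd rfl h1
      · exact ⟨m * m, A.M.mul_mem hm hm, by rw [← e2, ← e1]; group⟩
      · exact ⟨m, hm, e1⟩
      · exact ⟨1, one_mem _, by group⟩
  rw [Five.card_orbit_mul A.M (A.pairE 18 23), horb,
    Set.ncard_sdiff_singleton_of_mem (one_mem A.W), ← Nat.card_coe_set_eq, SetLike.coe_sort_coe,
    A.card_W, show A.M ⊓ centralizer ({A.pairE 18 23} : Set G) = A.C3 from
      le_antisymm (inf_le_inf_right _ inf_le_right) (le_inf A.C3_le inf_le_right), A.card_C3]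

end Ctx

end CfsgLib.J4Type.Seven
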