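import Cfsg.Agent.Lib.J4Type.Five.CentPrime
import Cfsg.Agent.Lib.J4Type.NV.Graph
import Cfsg.Agent.Lib.Golay.Perm

/-!
The certificates for an element of order seven of the centraliser of the involution and for its
image in the permutation group on 24 points.
-/

set_option autoImplicit false
set_option maxRecDepth 100000
set_option Elab.async false

namespace CfsgLib.J4Type.Seven

open Local57 CfsgLib.Golay

/-- A word for a matrix of order fourteen commuting with the element of order seven. -/
def word14 : List ℕ := [1, 4, 5, 3]

/-- The matrix of the element of order seven. -/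
def m7 : List ℕ := Three.wordM (word14 ++ word14)

/-- The words of the representatives. -/
def repWords : List (List ℕ) := (List.range 14).map fun i => (List.replicate i word14).flatten

/-- The representatives. -/
def reps7 : List (List ℕ) := repWords.map Three.wordM

/-- A matrix moving `m7` to its fourth power. -/
def n7 : List ℕ := Three.wordM [0, 3, 1, 3, 0]

theorem words_ok : ((word14 ++ word14) :: [0, 3, 1, 3, 0] :: repWords).all (fun w =>
    w.all fun i => Nat.ble (i + 1) 6) = true := by decide +kernel

theorem inL_m7 : InL m7 := Three.inL_wordM _ (by decide +kernel)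

theorem inL_n7 : InL n7 := Three.inL_wordM _ (by decide +kernel)

theorem inL_reps7 : ∀ r ∈ reps7, InL r := by
  intro r hr
  obtain ⟨w, hw, rfl⟩ := List.mem_map.1 hr
  exact Three.inL_wordM w
    (List.all_eq_true.1 words_ok w (List.mem_cons_of_mem _ (List.mem_cons_of_mem _ hw)))

theorem cent_ok : centCheck m7 reps7 7 = true := by decide +kernel

theorem spread_ok : (spread reps7).Nodup ∧ (spread reps7).length = 42 ∧
    (spread reps7).all (fun c => Three.eqM (mm c m7) (mm m7 c)) = true := by decide +kernel

theorem fourth_ok : Three.eqM (mm n7 m7) (mm (mm m7 (mm m7 (mm m7 m7))) n7) = true := by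
  decide +kernel

theorem fix_ok : ((List.range 4096).all fun v => !Nat.beq (mv m7 v) v || Nat.beq v 0) = true := by
  decide +kernel

/-- The involutory matrices commuting with `m7` do not commute with the scalar, and are conjugate
by it. -/
theorem invol_ok : ((spread reps7).all fun c => !Three.eqM (mm c c) idM || Three.eqM c idM ||
    (!Three.eqM (mm c pOm) (mm pOm c) && Three.eqM (mm c pOm) (mm (mm pOm pOm) c) &&
    (spread reps7).all fun d => !Three.eqM (mm d d) idM || Three.eqM d idM ||
      pPows.any fun s => Three.eqM d (mm s c))) = true := by
  decide +kernel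

/-! ### The permutation -/

/-- A permutation of order twenty-one. -/
def code21 : ℕ := 770571445143492917712265936639570359

/-- Its cube. -/
def code7 : ℕ := 961111474672135065018105173920730176

/-- An involution centralising `code7` fixing `0` and interchanging the other two fixed points. -/
def code2 : ℕ := 760892842642803638783215928980113440

/-- An element centralising `code7` moving `0` to `18` and `18` to `23`. -/
def code3 : ℕ := 3991028883093353698109482470687922

/-- The iterated image. -/
def iter (g : ℕ) : ℕ → ℕ → ℕ
  | 0, i => i
  | n + 1, i => img g (iter g n i)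

theorem code_mem : inM24 code21 = true ∧ inM24 code7 = true ∧ inM24 code2 = true ∧
    inM24 code3 = true := by decide +kernel

theorem code_powers : ((List.range 24).all fun i => Nat.beq (iter code21 24 i) (img code7 i) &&
    Nat.beq (iter code7 7 i) i && Nat.beq (iter code2 2 i) i &&
    Nat.beq (img code2 (img code7 i)) (img code7 (img code2 i)) &&
    Nat.beq (img code3 (img code7 i)) (img code7 (img code3 i))) = true ∧
    Nat.beq (iter code21 28 1) 1 = false ∧ Nat.beq (iter code21 24 1) 1 = false := by
  decide +kernel

theorem code_values : img code7 0 = 0 ∧ img code7 18 = 18 ∧ img code7 23 = 23 ∧ img code7 1 ≠ 1 ∧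
    img code2 0 = 0 ∧ img code2 18 = 23 ∧ img code2 23 = 18 ∧
    img code3 0 = 18 ∧ img code3 18 = 23 ∧ img code3 23 = 0 := by decide +kernel

/-- The three orbits of length seven. -/
def cycles : List (List ℕ) :=
  [[1, 2, 19, 8, 3, 16, 15], [4, 14, 9, 21, 13, 12, 22], [5, 17, 11, 10, 6, 20, 7]]

/-- The moved points. -/
def moved : List ℕ := cycles.flatten

theorem cycles_ok : ((List.range 3).all fun j => (List.range 7).all fun k =>
      Nat.beq (iter code7 k ((cycles.getD j []).getD 0 0)) ((cycles.getD j []).getD k 0)) = true ∧
    ((List.range 24).all fun i => Nat.beq i 0 || Nat.beq i 18 || Nat.beq i 23 ||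
      (!Nat.beq (img code7 i) i && moved.contains i)) = true := by
  decide +kernel

/-- The position of a moved point. -/
def pos (i : ℕ) : ℕ := moved.findIdx fun a => Nat.beq a i

/-- The images of the points under a map fixing the three fixed points, twisting `code7` by the
exponent `e` and sending the three bases to the given points. -/
def imgOf (e : ℕ) (y : List ℕ) (i : ℕ) : ℕ :=
  if Nat.beq i 0 || Nat.beq i 18 || Nat.beq i 23 then i
  else iter code7 (e * (pos i % 7) % 7) (y.getD (pos i / 7) 0)

/-- A list of images as a number. -/
def encL : List ℕ → ℕ
  | [] => 0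
  | a :: l => a + 32 * encL l

/-- The candidate code. -/
def cand (e : ℕ) (y : List ℕ) : ℕ := encL ((List.range 24).map (imgOf e y))

/-- The centraliser of `code7` fixing its fixed points consists of its powers. -/
theorem cent_cand_ok : (moved.all fun a => moved.all fun b => moved.all fun c =>
    !inM24 (cand 1 [a, b, c]) || (List.range 7).any fun k => (List.range 24).all fun i =>
      Nat.beq (imgOf 1 [a, b, c] i) (iter code7 k i)) = true := by
  decide +kernel

/-- No element fixing the fixed points inverts `code7`. -/
theorem inv_cand_ok : (moved.all fun a => moved.all fun b => moved.all fun c =>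
    !inM24 (cand 6 [a, b, c])) = true := by
  decide +kernel

/-! ### The action on the subgroup of order `2 ^ 11` -/

/-- The matrix of the action of `code7` on the coordinates. -/
def lin7 : List ℕ :=
  (List.range 11).map fun j => NV.wSum ((NV.spanTab.getD j []).map (img code7))

theorem lin7_ok : (lin7.all fun x => decide (x < 2048)) = true ∧
    ((List.range 2048).all fun v => !Nat.beq (mv lin7 v) v ||
      (Nat.beq v 0 || Nat.beq v (NV.wv 18) || Nat.beq v (NV.wv 23) ||
        Nat.beq v (NV.wv 18 ^^^ NV.wv 23))) = true := by
  decide +kernel

theorem wv_facts : NV.wv 0 = 0 ∧ NV.wv 18 ≠ 0 ∧ NV.wv 23 ≠ 0 ∧ NV.wv 18 ≠ NV.wv 23 := by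
  decide +kernel

end CfsgLib.J4Type.Seven
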